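import Groth.Agent.Lib.Helper72.GrpdPts

/-!
# Restriction of a groupoid scheme along a morphism `g : U' ⟶ U` (helper73)

For a groupoid scheme `G = (U, R, s, t, c)` over `S` and `g : U' ⟶ U`, the restriction is the
groupoid scheme `(U', R', s', t', c')` with `R' = (U' ×_{g,U,t} R) ×_{s ∘ pr₂, U, g} U'`,
whose `T`-points are triples `(a, α, b)` with `a, b : T ⟶ U'`, `α : T ⟶ R`, `t α = g a`,
`s α = g b`.

* `GrpdRes.hh`, `GrpdRes.R'`, `GrpdRes.pa`, `GrpdRes.pα`, `GrpdRes.pb`, `GrpdRes.mk`, `GrpdRes.hom_ext'`.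
* `GrpdRes.restrictAlong G g : Grpd.GroupoidScheme S`.
-/

set_option autoImplicit false

universe u

namespace Groth.Agent.Lib.Helper73.GrpdRes

open AlgebraicGeometry CategoryTheory CategoryTheory.Limits Groth.Agent.Lib.Helper72.GrpdPts

variable {S : Scheme.{u}} (G : Grpd.GroupoidScheme S) {U' : Scheme.{u}} (g : U' ⟶ G.U)

/-- `h = s ∘ pr₂ : U' ×_{g,U,t} R ⟶ U`. -/
noncomputable abbrev hh : pullback g G.t ⟶ G.U := pullback.snd g G.t ≫ G.s

/-- The arrows of the restricted groupoid. -/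
noncomputable abbrev R' : Scheme.{u} := pullback (hh G g) g

variable {G g} {T : Scheme.{u}}

/-- The target object of a `T`-point of `R'`. -/
noncomputable def pa (x : T ⟶ R' G g) : T ⟶ U' :=
  x ≫ pullback.fst (hh G g) g ≫ pullback.fst g G.t

/-- The underlying arrow of a `T`-point of `R'`. -/
noncomputable def pα (x : T ⟶ R' G g) : T ⟶ G.R :=
  x ≫ pullback.fst (hh G g) g ≫ pullback.snd g G.t

/-- The source object of a `T`-point of `R'`. -/
noncomputable def pb (x : T ⟶ R' G g) : T ⟶ U' :=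
  x ≫ pullback.snd (hh G g) g

lemma pa_g (x : T ⟶ R' G g) : pa x ≫ g = pα x ≫ G.t := by
  unfold pa pα
  rw [Category.assoc, Category.assoc, pullback.condition, Category.assoc, Category.assoc]

lemma pα_s (x : T ⟶ R' G g) : pα x ≫ G.s = pb x ≫ g := by
  unfold pα pb
  rw [Category.assoc, Category.assoc, Category.assoc, ← pullback.condition]

/-- The `T`-point of `R'` with given components. -/
noncomputable def mk (a : T ⟶ U') (α : T ⟶ G.R) (b : T ⟶ U') (h1 : a ≫ g = α ≫ G.t)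
    (h2 : α ≫ G.s = b ≫ g) : T ⟶ R' G g :=
  pullback.lift (pullback.lift a α h1) b (by rw [pullback.lift_snd_assoc, h2])

@[simp] lemma pa_mk (a : T ⟶ U') (α : T ⟶ G.R) (b : T ⟶ U') (h1 : a ≫ g = α ≫ G.t)
    (h2 : α ≫ G.s = b ≫ g) : pa (mk a α b h1 h2) = a := by
  unfold pa mk
  rw [pullback.lift_fst_assoc, pullback.lift_fst]

@[simp] lemma pα_mk (a : T ⟶ U') (α : T ⟶ G.R) (b : T ⟶ U') (h1 : a ≫ g = α ≫ G.t)
    (h2 : α ≫ G.s = b ≫ g) : pα (mk a α b h1 h2) = α := by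
  unfold pα mk
  rw [pullback.lift_fst_assoc, pullback.lift_snd]

@[simp] lemma pb_mk (a : T ⟶ U') (α : T ⟶ G.R) (b : T ⟶ U') (h1 : a ≫ g = α ≫ G.t)
    (h2 : α ≫ G.s = b ≫ g) : pb (mk a α b h1 h2) = b := by
  unfold pb mk
  rw [pullback.lift_snd]

lemma hom_ext' {x y : T ⟶ R' G g} (h1 : pa x = pa y) (h2 : pα x = pα y) (h3 : pb x = pb y) :
    x = y := by
  apply pullback.hom_ext
  · apply pullback.hom_ext
    · rw [Category.assoc, Category.assoc]; exact h1
    · rw [Category.assoc, Category.assoc]; exact h2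
  · exact h3

lemma comp_pa {T' : Scheme.{u}} (γ : T' ⟶ T) (x : T ⟶ R' G g) : pa (γ ≫ x) = γ ≫ pa x := by
  unfold pa; rw [Category.assoc]

lemma comp_pα {T' : Scheme.{u}} (γ : T' ⟶ T) (x : T ⟶ R' G g) : pα (γ ≫ x) = γ ≫ pα x := by
  unfold pα; rw [Category.assoc]

lemma comp_pb {T' : Scheme.{u}} (γ : T' ⟶ T) (x : T ⟶ R' G g) : pb (γ ≫ x) = γ ≫ pb x := by
  unfold pb; rw [Category.assoc]

lemma comp_mk {T' : Scheme.{u}} (γ : T' ⟶ T) (a : T ⟶ U') (α : T ⟶ G.R) (b : T ⟶ U')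
    (h1 : a ≫ g = α ≫ G.t) (h2 : α ≫ G.s = b ≫ g) :
    γ ≫ mk a α b h1 h2 = mk (γ ≫ a) (γ ≫ α) (γ ≫ b) (by rw [Category.assoc, h1, Category.assoc])
      (by rw [Category.assoc, h2, Category.assoc]) := by
  apply hom_ext'
  · rw [comp_pa, pa_mk, pa_mk]
  · rw [comp_pα, pα_mk, pα_mk]
  · rw [comp_pb, pb_mk, pb_mk]

lemma mk_eta (x : T ⟶ R' G g) : mk (pa x) (pα x) (pb x) (pa_g x) (pα_s x) = x := by
  apply hom_ext'
  · rw [pa_mk]
  · rw [pα_mk]
  · rw [pb_mk]

lemma mk_congr {a a' : T ⟶ U'} {α α' : T ⟶ G.R} {b b' : T ⟶ U'} (ha : a = a') (hα : α = α')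
    (hb : b = b') (h1 : a ≫ g = α ≫ G.t) (h2 : α ≫ G.s = b ≫ g) (h1' : a' ≫ g = α' ≫ G.t)
    (h2' : α' ≫ G.s = b' ≫ g) : mk a α b h1 h2 = mk a' α' b' h1' h2' := by
  subst ha hα hb; rfl

variable (G g)

/-- source of the restricted groupoid -/
noncomputable def s' : R' G g ⟶ U' := pullback.snd (hh G g) g

/-- target of the restricted groupoid -/
noncomputable def t' : R' G g ⟶ U' := pullback.fst (hh G g) g ≫ pullback.fst g G.t

variable {G g}

lemma comp_s' (x : T ⟶ R' G g) : x ≫ s' G g = pb x := rfl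

lemma comp_t' (x : T ⟶ R' G g) : x ≫ t' G g = pa x := rfl

lemma mul'_cond (x y : T ⟶ R' G g) (h : x ≫ s' G g = y ≫ t' G g) :
    pα x ≫ G.s = pα y ≫ G.t := by
  rw [pα_s, ← pa_g]
  rw [comp_s', comp_t'] at h
  rw [h]

/-- composition of `T`-points of the restricted groupoid -/
noncomputable def mul' (x y : T ⟶ R' G g) (h : x ≫ s' G g = y ≫ t' G g) : T ⟶ R' G g :=
  mk (pa x) (mul G (pα x) (pα y) (mul'_cond x y h)) (pb y)
    (by rw [mul_t, pa_g]) (by rw [mul_s, pα_s])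

@[simp] lemma pa_mul' (x y : T ⟶ R' G g) (h : x ≫ s' G g = y ≫ t' G g) :
    pa (mul' x y h) = pa x := pa_mk _ _ _ _ _

@[simp] lemma pα_mul' (x y : T ⟶ R' G g) (h : x ≫ s' G g = y ≫ t' G g) :
    pα (mul' x y h) = mul G (pα x) (pα y) (mul'_cond x y h) := pα_mk _ _ _ _ _

@[simp] lemma pb_mul' (x y : T ⟶ R' G g) (h : x ≫ s' G g = y ≫ t' G g) :
    pb (mul' x y h) = pb y := pb_mk _ _ _ _ _

lemma comp_mul' {T' : Scheme.{u}} (γ : T' ⟶ T) (x y : T ⟶ R' G g)
    (h : x ≫ s' G g = y ≫ t' G g) :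
    γ ≫ mul' x y h = mul' (γ ≫ x) (γ ≫ y) (by rw [Category.assoc, h, Category.assoc]) := by
  apply hom_ext'
  · rw [comp_pa, pa_mul', pa_mul', comp_pa]
  · rw [comp_pα, pα_mul', pα_mul']
    rw [comp_mul G γ (pα x) (pα y) (mul'_cond x y h)
      (by rw [Category.assoc, mul'_cond x y h, Category.assoc])]
    exact mul_congr G (comp_pα γ x).symm (comp_pα γ y).symm _ _
  · rw [comp_pb, pb_mul', pb_mul', comp_pb]

variable (G g)

/-- composition of the restricted groupoid -/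
noncomputable def c' : pullback (s' G g) (t' G g) ⟶ R' G g :=
  mul' (pullback.fst (s' G g) (t' G g)) (pullback.snd (s' G g) (t' G g)) pullback.condition

/-- identity of the restricted groupoid -/
noncomputable def e' : U' ⟶ R' G g :=
  mk (𝟙 U') (g ≫ G.e) (𝟙 U') (by rw [Category.id_comp, Category.assoc, G.e_t, Category.comp_id])
    (by rw [Category.id_comp, Category.assoc, G.e_s, Category.comp_id])

/-- inverse of the restricted groupoid -/
noncomputable def i' : R' G g ⟶ R' G g :=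
  mk (pb (𝟙 (R' G g))) (pα (𝟙 (R' G g)) ≫ G.i) (pa (𝟙 (R' G g)))
    (by rw [Category.assoc, G.i_t, pα_s]) (by rw [Category.assoc, G.i_s, pa_g])

variable {G g}

lemma lift_c' (x y : T ⟶ R' G g) (h : x ≫ s' G g = y ≫ t' G g) :
    pullback.lift x y h ≫ c' G g = mul' x y h := by
  unfold c'
  rw [comp_mul']
  congr 1
  · exact pullback.lift_fst _ _ _
  · exact pullback.lift_snd _ _ _

lemma mul'_congr {x x' y y' : T ⟶ R' G g} (hx : x = x') (hy : y = y')
    (h : x ≫ s' G g = y ≫ t' G g) (h' : x' ≫ s' G g = y' ≫ t' G g) :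
    mul' x y h = mul' x' y' h' := by
  subst hx hy; rfl

lemma comp_e' (γ : T ⟶ U') : γ ≫ e' G g =
    mk γ (γ ≫ g ≫ G.e) γ (by rw [Category.assoc, Category.assoc, G.e_t, Category.comp_id])
      (by rw [Category.assoc, Category.assoc, G.e_s, Category.comp_id]) := by
  unfold e'
  rw [comp_mk]
  exact mk_congr (Category.comp_id _) rfl (Category.comp_id _) _ _ _ _

lemma comp_i' (x : T ⟶ R' G g) : x ≫ i' G g =
    mk (pb x) (pα x ≫ G.i) (pa x) (by rw [Category.assoc, G.i_t, pα_s])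
      (by rw [Category.assoc, G.i_s, pa_g]) := by
  unfold i'
  rw [comp_mk]
  refine mk_congr ?_ ?_ ?_ _ _ _ _
  · rw [← comp_pb, Category.comp_id]
  · rw [← Category.assoc, ← comp_pα, Category.comp_id]
  · rw [← comp_pa, Category.comp_id]

lemma mul'_assoc (x y z : T ⟶ R' G g) (h₁ : x ≫ s' G g = y ≫ t' G g)
    (h₂ : y ≫ s' G g = z ≫ t' G g) (h3 : mul' x y h₁ ≫ s' G g = z ≫ t' G g)
    (h4 : x ≫ s' G g = mul' y z h₂ ≫ t' G g) :
    mul' (mul' x y h₁) z h3 = mul' x (mul' y z h₂) h4 := by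
  apply hom_ext'
  · rw [pa_mul', pa_mul', pa_mul']
  · refine (pα_mul' _ _ _).trans ?_
    refine Eq.trans ?_ (pα_mul' _ _ _).symm
    have := mul_assoc G (pα x) (pα y) (pα z) (mul'_cond x y h₁) (mul'_cond y z h₂)
      (by rw [mul_s]; exact mul'_cond y z h₂) (by rw [mul_t]; exact mul'_cond x y h₁)
    refine (mul_congr G (pα_mul' x y h₁) rfl _ _).trans (this.trans ?_)
    exact (mul_congr G rfl (pα_mul' y z h₂) _ _).symm
  · rw [pb_mul', pb_mul', pb_mul']

lemma mul'_e (x : T ⟶ R' G g) (h : x ≫ s' G g = (x ≫ s' G g ≫ e' G g) ≫ t' G g) :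
    mul' x (x ≫ s' G g ≫ e' G g) h = x := by
  have he : x ≫ s' G g ≫ e' G g = (x ≫ s' G g) ≫ e' G g := (Category.assoc _ _ _).symm
  apply hom_ext'
  · rw [pa_mul']
  · rw [pα_mul']
    apply mul_e
    rw [he, comp_e', pα_mk, comp_s', ← Category.assoc, ← pα_s, Category.assoc]
  · rw [pb_mul', he, comp_e', pb_mk, comp_s']

lemma e_mul' (x : T ⟶ R' G g) (h : (x ≫ t' G g ≫ e' G g) ≫ s' G g = x ≫ t' G g) :
    mul' (x ≫ t' G g ≫ e' G g) x h = x := by
  have he : x ≫ t' G g ≫ e' G g = (x ≫ t' G g) ≫ e' G g := (Category.assoc _ _ _).symm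
  apply hom_ext'
  · rw [pa_mul', he, comp_e', pa_mk, comp_t']
  · rw [pα_mul']
    apply e_mul
    rw [he, comp_e', pα_mk, comp_t', ← Category.assoc, pa_g, Category.assoc]
  · rw [pb_mul']

lemma mul'_i (x : T ⟶ R' G g) (h : x ≫ s' G g = (x ≫ i' G g) ≫ t' G g) :
    mul' x (x ≫ i' G g) h = x ≫ t' G g ≫ e' G g := by
  have he : x ≫ t' G g ≫ e' G g = (x ≫ t' G g) ≫ e' G g := (Category.assoc _ _ _).symm
  apply hom_ext'
  · rw [pa_mul', he, comp_e', pa_mk, comp_t']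
  · rw [pα_mul', he, comp_e', pα_mk, comp_t']
    have h1 : pα x ≫ G.s = (pα x ≫ G.i) ≫ G.t := by rw [Category.assoc, G.i_t]
    refine (mul_congr G rfl ?_ _ h1).trans ((mul_i G (pα x) h1).trans ?_)
    · rw [comp_i', pα_mk]
    · rw [← Category.assoc, ← pa_g, Category.assoc]
  · rw [pb_mul', he, comp_e', pb_mk, comp_i', pb_mk, comp_t']

lemma i_mul' (x : T ⟶ R' G g) (h : (x ≫ i' G g) ≫ s' G g = x ≫ t' G g) :
    mul' (x ≫ i' G g) x h = x ≫ s' G g ≫ e' G g := by
  have he : x ≫ s' G g ≫ e' G g = (x ≫ s' G g) ≫ e' G g := (Category.assoc _ _ _).symm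
  apply hom_ext'
  · rw [pa_mul', he, comp_e', pa_mk, comp_i', pa_mk, comp_s']
  · rw [pα_mul', he, comp_e', pα_mk, comp_s']
    have h1 : (pα x ≫ G.i) ≫ G.s = pα x ≫ G.t := by rw [Category.assoc, G.i_s]
    refine (mul_congr G ?_ rfl _ h1).trans ((i_mul G (pα x) h1).trans ?_)
    · rw [comp_i', pα_mk]
    · rw [← Category.assoc, pα_s, Category.assoc]
  · rw [pb_mul', he, comp_e', pb_mk, comp_s']

variable (G g)

lemma e'_s' : e' G g ≫ s' G g = 𝟙 U' := by
  rw [comp_s']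
  unfold e'
  rw [pb_mk]

lemma e'_t' : e' G g ≫ t' G g = 𝟙 U' := by
  rw [comp_t']
  unfold e'
  rw [pa_mk]

lemma i'_s' : i' G g ≫ s' G g = t' G g := by
  rw [comp_s']
  unfold i'
  rw [pb_mk, ← comp_t', Category.id_comp]

lemma i'_t' : i' G g ≫ t' G g = s' G g := by
  rw [comp_t']
  unfold i'
  rw [pa_mk, ← comp_s', Category.id_comp]

lemma t'_g : t' G g ≫ g = pα (𝟙 (R' G g)) ≫ G.t := by
  have := pa_g (𝟙 (R' G g))
  rwa [← comp_t', Category.id_comp] at this

lemma s'_g : s' G g ≫ g = pα (𝟙 (R' G g)) ≫ G.s := by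
  have := pα_s (𝟙 (R' G g))
  rw [← comp_s', Category.id_comp] at this
  exact this.symm

/-- The restriction of the groupoid scheme `G` along `g : U' ⟶ G.U`. -/
noncomputable def restrictAlong : Grpd.GroupoidScheme S where
  U := U'
  R := R' G g
  pU := g ≫ G.pU
  pR := s' G g ≫ g ≫ G.pU
  s := s' G g
  t := t' G g
  e := e' G g
  i := i' G g
  c := c' G g
  s_over := rfl
  t_over := by
    rw [← Category.assoc, t'_g, ← Category.assoc (s' G g), s'_g, Category.assoc, Category.assoc,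
      G.t_over, G.s_over]
  comp_s := by
    intro T x y h
    rw [lift_c', comp_s', pb_mul', comp_s']
  comp_t := by
    intro T x y h
    rw [lift_c', comp_t', pa_mul', comp_t']
  assoc := by
    intro T x y z h₁ h₂
    have h3 : mul' x y h₁ ≫ s' G g = z ≫ t' G g := by
      rw [comp_s', pb_mul', ← comp_s', h₂]
    have h4 : x ≫ s' G g = mul' y z h₂ ≫ t' G g := by
      rw [comp_t', pa_mul', ← comp_t', h₁]
    refine (lift_c' _ _ _).trans ((mul'_congr (lift_c' x y h₁) rfl _ h3).trans ?_)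
    refine (mul'_assoc x y z h₁ h₂ h3 h4).trans ?_
    exact ((lift_c' _ _ _).trans (mul'_congr rfl (lift_c' y z h₂) _ h4)).symm
  e_s := e'_s' G g
  e_t := e'_t' G g
  comp_e := by
    intro T x
    rw [lift_c']
    exact mul'_e x _
  e_comp := by
    intro T x
    rw [lift_c']
    exact e_mul' x _
  i_s := i'_s' G g
  i_t := i'_t' G g
  comp_i := by
    intro T x
    rw [lift_c']
    exact mul'_i x _
  i_comp := by
    intro T x
    rw [lift_c']
    exact i_mul' x _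

section Interface

variable {T : Scheme.{u}}

/-- The morphism on objects from the restricted groupoid to `G` (equal to `g`). -/
noncomputable def gU : (restrictAlong G g).U ⟶ G.U := g

/-- The morphism on arrows from the restricted groupoid to `G`. -/
noncomputable def qR : (restrictAlong G g).R ⟶ G.R := pα (𝟙 (R' G g))

lemma qR_t : qR G g ≫ G.t = (restrictAlong G g).t ≫ gU G g := (t'_g G g).symm

lemma qR_s : qR G g ≫ G.s = (restrictAlong G g).s ≫ gU G g := (s'_g G g).symm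

variable {G g}

/-- A `T`-point of the arrows of the restricted groupoid. -/
noncomputable def mkR (a : T ⟶ (restrictAlong G g).U) (α : T ⟶ G.R)
    (b : T ⟶ (restrictAlong G g).U) (h1 : a ≫ gU G g = α ≫ G.t)
    (h2 : α ≫ G.s = b ≫ gU G g) : T ⟶ (restrictAlong G g).R := mk a α b h1 h2

lemma mkR_t (a : T ⟶ (restrictAlong G g).U) (α : T ⟶ G.R)
    (b : T ⟶ (restrictAlong G g).U) (h1 : a ≫ gU G g = α ≫ G.t)
    (h2 : α ≫ G.s = b ≫ gU G g) : mkR a α b h1 h2 ≫ (restrictAlong G g).t = a :=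
  (comp_t' _).trans (pa_mk _ _ _ _ _)

lemma mkR_s (a : T ⟶ (restrictAlong G g).U) (α : T ⟶ G.R)
    (b : T ⟶ (restrictAlong G g).U) (h1 : a ≫ gU G g = α ≫ G.t)
    (h2 : α ≫ G.s = b ≫ gU G g) : mkR a α b h1 h2 ≫ (restrictAlong G g).s = b :=
  (comp_s' _).trans (pb_mk _ _ _ _ _)

lemma mkR_qR (a : T ⟶ (restrictAlong G g).U) (α : T ⟶ G.R)
    (b : T ⟶ (restrictAlong G g).U) (h1 : a ≫ gU G g = α ≫ G.t)
    (h2 : α ≫ G.s = b ≫ gU G g) : mkR a α b h1 h2 ≫ qR G g = α :=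
  (comp_pα (mk a α b h1 h2) (𝟙 (R' G g))).symm.trans
    ((congrArg pα (Category.comp_id _)).trans (pα_mk _ _ _ _ _))

lemma R_hom_ext {x y : T ⟶ (restrictAlong G g).R}
    (h1 : x ≫ (restrictAlong G g).t = y ≫ (restrictAlong G g).t)
    (h2 : x ≫ qR G g = y ≫ qR G g)
    (h3 : x ≫ (restrictAlong G g).s = y ≫ (restrictAlong G g).s) : x = y := by
  apply hom_ext' (G := G) (g := g)
  · exact h1
  · have e1 : ∀ w : T ⟶ R' G g, pα w = w ≫ pα (𝟙 (R' G g)) := by
      intro w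
      rw [← comp_pα, Category.comp_id]
    exact (e1 x).trans (h2.trans (e1 y).symm)
  · exact h3

end Interface

end Groth.Agent.Lib.Helper73.GrpdRes
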