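import Mathlib

/-!
# Utilities for slicing groupoids (helper73)

* `isPullback_comp_mono`: composing both legs of a pullback square with a mono.
* `isOpenImmersion_lift_pullback`: local description of `U' ×_U R` over opens `U₀ ⊆ U`, `R₀ ⊆ R`.
* `exists_section_vanishing_avoiding`: prime avoidance on an affine open of a scheme.
-/

set_option autoImplicit false
open CategoryTheory AlgebraicGeometry TopologicalSpace Topology Limits
universe u

namespace Groth.Agent.Lib.Helper73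

section General

variable {C : Type*} [Category C]

/-- Composing both legs of a pullback square with a monomorphism gives a pullback square. -/
theorem isPullback_comp_mono {W X A Y Z : C} {fst : W ⟶ X} {snd : W ⟶ A} {f : X ⟶ Y} {g : A ⟶ Y}
    (m : Y ⟶ Z) [Mono m] (sq : IsPullback fst snd f g) : IsPullback fst snd (f ≫ m) (g ≫ m) := by
  have w : fst ≫ f ≫ m = snd ≫ g ≫ m := by rw [← Category.assoc, sq.w, Category.assoc]
  refine ⟨⟨w⟩, ⟨PullbackCone.IsLimit.mk _
    (fun c => sq.lift c.fst c.snd (by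
      rw [← cancel_mono m, Category.assoc, Category.assoc]; exact c.condition)) ?_ ?_ ?_⟩⟩
  · intro c
    exact sq.lift_fst _ _ _
  · intro c
    exact sq.lift_snd _ _ _
  · intro c l h1 h2
    apply sq.hom_ext
    · rw [h1, sq.lift_fst]
    · rw [h2, sq.lift_snd]

end General

/-- Local description of a fibre product `U' ×_U R` over opens `U₀ ⊆ U`, `R₀ ⊆ R`. -/
theorem isOpenImmersion_lift_pullback {U R U₀ R₀ U' W : Scheme.{u}} (t : R ⟶ U) (m : U₀ ⟶ U)
    [Mono m] (b₀ : R₀ ⟶ R) [IsOpenImmersion b₀] (t₀ : R₀ ⟶ U₀) (ht₀ : t₀ ≫ m = b₀ ≫ t)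
    (i' : U' ⟶ U₀) (a : W ⟶ U') (b : W ⟶ R₀) (sq : IsPullback a b i' t₀) :
    ∃ j : W ⟶ pullback (i' ≫ m) t, IsOpenImmersion j ∧ j ≫ pullback.fst (i' ≫ m) t = a ∧
      j ≫ pullback.snd (i' ≫ m) t = b ≫ b₀ := by
  have sq1 : IsPullback a b (i' ≫ m) (b₀ ≫ t) := by
    have := isPullback_comp_mono m sq
    rwa [ht₀] at this
  have hw : a ≫ i' ≫ m = (b ≫ b₀) ≫ t := by rw [Category.assoc]; exact sq1.w
  let j : W ⟶ pullback (i' ≫ m) t := pullback.lift a (b ≫ b₀) hw
  have hj1 : j ≫ pullback.fst (i' ≫ m) t = a := pullback.lift_fst _ _ _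
  have hj2 : j ≫ pullback.snd (i' ≫ m) t = b ≫ b₀ := pullback.lift_snd _ _ _
  have sq2 : IsPullback j b (pullback.snd (i' ≫ m) t) b₀ := by
    refine IsPullback.of_right ?_ hj2 (IsPullback.of_hasPullback (i' ≫ m) t)
    rw [hj1]
    exact sq1
  refine ⟨j, ?_, hj1, hj2⟩
  exact MorphismProperty.of_isPullback (P := @IsOpenImmersion) sq2.flip inferInstance

/-- Prime avoidance on an affine open: a section vanishing at `u` but at none of finitely many points
which are not specializations of `u`. -/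
theorem exists_section_vanishing_avoiding {U : Scheme.{u}} (U₀ : U.Opens) (hU₀ : IsAffineOpen U₀)
    (u : U) (hu : u ∈ U₀) (Z : Set U) (hZ : Z.Finite) (hZU : ∀ y ∈ Z, y ∈ U₀)
    (hZu : ∀ y ∈ Z, ¬ u ⤳ y) :
    ∃ a : Γ(U, U₀), u ∉ U.basicOpen a ∧ ∀ y ∈ Z, y ∈ U.basicOpen a := by
  classical
  let pu : PrimeSpectrum Γ(U, U₀) := hU₀.primeIdealOf ⟨u, hu⟩
  have hpu : hU₀.fromSpec pu = u := hU₀.fromSpec_primeIdealOf ⟨u, hu⟩
  have hmem : ∀ (p : PrimeSpectrum Γ(U, U₀)) (a : Γ(U, U₀)),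
      hU₀.fromSpec p ∈ U.basicOpen a ↔ a ∉ p.asIdeal := by
    intro p a
    change p ∈ hU₀.fromSpec ⁻¹ᵁ U.basicOpen a ↔ _
    rw [hU₀.fromSpec_preimage_basicOpen]
    rfl
  let P : Set (PrimeSpectrum Γ(U, U₀)) := {p | hU₀.fromSpec p ∈ Z}
  have hPfin : P.Finite := hZ.preimage hU₀.fromSpec.isOpenEmbedding.injective.injOn
  have hnot : ¬ ((pu.asIdeal : Set Γ(U, U₀)) ⊆ ⋃ p ∈ (hPfin.toFinset : Set _),
      ((p : PrimeSpectrum Γ(U, U₀)).asIdeal : Set Γ(U, U₀))) := by
    rw [Ideal.subset_union_prime pu pu (fun z _ _ _ => z.isPrime)]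
    rintro ⟨p, hp, hle⟩
    have hpP : hU₀.fromSpec p ∈ Z := hPfin.mem_toFinset.mp hp
    have hsp : pu ⤳ p := (PrimeSpectrum.le_iff_specializes pu p).mp hle
    have := hsp.map hU₀.fromSpec.continuous
    rw [hpu] at this
    exact hZu _ hpP this
  obtain ⟨a, hau, haZ⟩ := Set.not_subset.mp hnot
  refine ⟨a, ?_, ?_⟩
  · rw [← hpu, hmem]
    exact fun h => h hau
  · intro y hy
    let py : PrimeSpectrum Γ(U, U₀) := hU₀.primeIdealOf ⟨y, hZU y hy⟩
    have hpy : hU₀.fromSpec py = y := hU₀.fromSpec_primeIdealOf ⟨y, hZU y hy⟩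
    rw [← hpy, hmem]
    intro hay
    apply haZ
    simp only [Set.mem_iUnion]
    exact ⟨py, hPfin.mem_toFinset.mpr (by change hU₀.fromSpec py ∈ Z; rw [hpy]; exact hy), hay⟩

end Groth.Agent.Lib.Helper73
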