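import Groth.Agent.Lib.Helper73.Grpd.StabDim
import Groth.Agent.Lib.Helper73.Grpd.SliceUtil
import Groth.Agent.Lib.Helper73.DimFormula.Slice.SliceFn
import Groth.Agent.Lib.Helper73.DimFormula.CMFlat.GrpdCM
import Groth.Agent.Lib.Helper73.DimFormula.QuasiSection

/-!
# Slicing a groupoid scheme with Cohen–Macaulay source map (helper73)

* `resTrdegNat_id`, `resTrdegNat_s_e`.
* `grpd_exists_slice`: if `s` is CM and lfp, `u` a finite type point with
  `dim G_u < dim_{e(u)} F_u = n + 1`, there is an affine `U'` with an lfp immersion `g : U' ⟶ U`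
  through `u` such that `h = s ∘ pr₂ : U' ×_{g,U,t} R ⟶ U` is CM at `(u, e u)` with fibre dimension
  `n` there.
-/

set_option autoImplicit false
open CategoryTheory AlgebraicGeometry TopologicalSpace Topology Limits
universe u

namespace Groth.Agent.Lib.Helper73

open Groth.Agent.Lib.Helper67.FiberStalk Groth.Agent.Lib.Helper67.FiberTower
open Groth.Agent.Lib.Helper73.GrpdRes

lemma resTrdegNat_id {Y : Scheme.{u}} (y : Y) : resTrdegNat (𝟙 Y) y = 0 := by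
  have e1 := resTrdegNat_comp (𝟙 Y) (𝟙 Y) y
  have e2 : resTrdegNat (𝟙 Y ≫ 𝟙 Y) y = resTrdegNat (𝟙 Y) y :=
    resTrdegNat_congr (Category.id_comp _) _
  have e3 : (𝟙 Y : Y ⟶ Y) y = y := rfl
  rw [e3] at e1
  omega

/-- The residue field of the identity point `e(u)` is `κ(u)` (via `s`). -/
lemma resTrdegNat_s_e {S : Scheme.{u}} (G : Grpd.GroupoidScheme S) [LocallyOfFiniteType G.s]
    (u : G.U) : resTrdegNat G.s (G.e u) = 0 := by
  have hlft_e : LocallyOfFiniteType G.e := by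
    have : LocallyOfFiniteType (G.e ≫ G.s) := by rw [G.e_s]; infer_instance
    exact locallyOfFiniteType_of_comp G.e G.s
  have h1 := resTrdegNat_comp G.e G.s u
  have h2 : resTrdegNat (G.e ≫ G.s) u = 0 := by
    rw [resTrdegNat_congr G.e_s u]; exact resTrdegNat_id u
  omega

/-- **Slicing a groupoid once** (Stacks, More on Groupoids, slicing lemma). -/
theorem grpd_exists_slice {S : Scheme.{u}} (G : Grpd.GroupoidScheme S)
    [LocallyOfFinitePresentation G.s] [LocallyOfFiniteType G.t]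
    (hs : ∀ r : G.R, MoreMor.IsCMAt G.s r) (u : G.U)
    (hu : LocallyOfFiniteType (G.U.fromSpecResidueField u)) (n : ℕ)
    (hn : FlatMor.fibreDimAt G.s (G.e u) = ((n + 1 : ℕ) : WithBot ℕ∞))
    (hd : topologicalKrullDim ↥(G.stabilizerToU.fiber u) < ((n + 1 : ℕ) : WithBot ℕ∞)) :
    ∃ (U' : Scheme.{u}) (_ : IsAffine U') (g : U' ⟶ G.U) (u' : U') (p : ↑(pullback g G.t)),
      IsImmersion g ∧ LocallyOfFinitePresentation g ∧ g u' = u ∧ pullback.fst g G.t p = u' ∧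
      pullback.snd g G.t p = G.e u ∧ MoreMor.IsCMAt (pullback.snd g G.t ≫ G.s) p ∧
      FlatMor.fibreDimAt (pullback.snd g G.t ≫ G.s) p = ((n : ℕ) : WithBot ℕ∞) ∧
      resTrdegNat (pullback.snd g G.t ≫ G.s) p = 0 := by
  set r₀ := G.e u with hr₀
  have hsr₀ : G.s r₀ = u := by
    rw [hr₀, ← Scheme.Hom.comp_apply, G.e_s]; rfl
  have htr₀ : G.t r₀ = u := by
    rw [hr₀, ← Scheme.Hom.comp_apply, G.e_t]; rfl
  have hr : resTrdegNat G.s r₀ = 0 := resTrdegNat_s_e G u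
  -- affine opens
  obtain ⟨U₀, hU₀, huU₀, -⟩ :=
    exists_isAffineOpen_mem_and_subset (X := G.U) (x := u) (U := ⊤) trivial
  obtain ⟨R₀, hR₀, hrR₀, hR₀le⟩ :=
    exists_isAffineOpen_mem_and_subset (X := G.R) (x := r₀) (U := G.t ⁻¹ᵁ U₀)
      (by change G.t r₀ ∈ U₀; rw [htr₀]; exact huU₀)
  -- maximal generizations
  let Zs : Set G.R := {z | z ⤳ r₀ ∧ G.s z = G.s r₀ ∧ ∀ t' : G.R, t' ⤳ z → G.s t' = G.s z → t' = z}
  have hZsfin : Zs.Finite := finite_maximal_fiber_generizations G.s r₀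
  let Z : Set G.U := G.t '' Zs
  have hZfin : Z.Finite := hZsfin.image _
  have hZU : ∀ y ∈ Z, y ∈ U₀ := by
    rintro _ ⟨z, ⟨hz, -, -⟩, rfl⟩
    have : G.t z ⤳ G.t r₀ := hz.map G.t.continuous
    rw [htr₀] at this
    exact this.mem_open U₀.isOpen huU₀
  have hZu : ∀ y ∈ Z, ¬ u ⤳ y := by
    rintro _ ⟨z, ⟨hz, hsz, hzmax⟩, rfl⟩ huz
    have h1 : G.t z ⤳ u := by
      have := hz.map G.t.continuous
      rwa [htr₀] at this
    have htz : G.t z = u := (h1.antisymm huz).eq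
    have h2 := resTrdegNat_eq_of_isCMAt_fp G.s r₀ (hs r₀) (n + 1) hn z hz hzmax
    have h3 := resTrdegNat_le_dim_stabilizer_fiber G u hu z (hsz.trans hsr₀) htz
    rw [h2] at h3
    exact absurd (lt_of_le_of_lt h3 hd) (lt_irrefl _)
  obtain ⟨a, hau, haZ⟩ := exists_section_vanishing_avoiding U₀ hU₀ u huU₀ Z hZfin hZU hZu
  haveI : IsAffine (U₀ : Scheme.{u}) := hU₀
  haveI : IsAffine (R₀ : Scheme.{u}) := hR₀
  let t₀ : (R₀ : Scheme.{u}) ⟶ (U₀ : Scheme.{u}) := G.t.resLE U₀ R₀ hR₀le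
  have ht₀ : t₀ ≫ U₀.ι = R₀.ι ≫ G.t := Scheme.Hom.resLE_comp_ι _ _
  let a' : Γ((U₀ : Scheme.{u}), ⊤) := U₀.topIso.inv a
  let γ : (U₀ : Scheme.{u}) ⟶ 𝔸(ULift.{u} (Fin 1); G.U) :=
    AffineSpace.homOfVector U₀.ι (fun _ => a')
  let c : Γ((R₀ : Scheme.{u}), ⊤) := t₀.appTop a'
  set f₀ := R₀.ι ≫ G.s with hf₀
  let I := coordIdeal (t₀ ≫ γ)
  have hI : I = coordIdeal (AffineSpace.homOfVector f₀ (fun _ : ULift.{u} (Fin 1) => c)) :=
    coordIdeal_congr _ _ (fun i => by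
      rw [Scheme.Hom.comp_appTop, CommRingCat.comp_apply, AffineSpace.homOfVector_appTop_coord,
        AffineSpace.homOfVector_appTop_coord])
  obtain ⟨r₀', hr₀'⟩ : ∃ w : (R₀ : Scheme.{u}), R₀.ι w = r₀ := ⟨⟨r₀, hrR₀⟩, rfl⟩
  -- membership in the basic open of `c`
  have hmemc : ∀ w : (R₀ : Scheme.{u}), w ∈ (R₀ : Scheme.{u}).basicOpen c ↔
      G.t (R₀.ι w) ∈ G.U.basicOpen a := by
    intro w
    have e1 : (R₀ : Scheme.{u}).basicOpen c = t₀ ⁻¹ᵁ (U₀ : Scheme.{u}).basicOpen a' :=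
      (Scheme.preimage_basicOpen_top t₀ a').symm
    rw [e1]
    change t₀ w ∈ (U₀ : Scheme.{u}).basicOpen (U₀.topIso.inv a) ↔ _
    refine (mem_basicOpen_topIso_inv_iff U₀ a (t₀ w)).trans ?_
    have e2 : U₀.ι (t₀ w) = G.t (R₀.ι w) := by
      rw [← Scheme.Hom.comp_apply, ht₀, Scheme.Hom.comp_apply]
    rw [e2]
  -- `f₀` at `r₀'`
  have hN : IsNoetherianRing (Q (R₀.ι ≫ G.s) r₀') :=
    isNoetherianRing_Q (R₀.ι ≫ G.s) r₀'
      (LocallyOfFiniteType.isLocallyNoetherian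
        ((R₀.ι ≫ G.s).fiberToSpecResidueField ((R₀.ι ≫ G.s) r₀')))
  have hCM₀ : MoreMor.IsCMAt f₀ r₀' :=
    isCMAt_comp R₀.ι G.s r₀' hN (isCMAt_of_isOpenImmersion R₀.ι r₀') (hs _)
  have hn₀ : FlatMor.fibreDimAt f₀ r₀' = ((n + 1 : ℕ) : WithBot ℕ∞) := by
    rw [fibreDimAt_eq_of_isOpenImmersion_square R₀.ι (𝟙 G.U) f₀ G.s (by simp [hf₀]) r₀', hr₀']
    exact hn
  have hr₀0 : resTrdegNat f₀ r₀' = 0 := by
    rw [hf₀, resTrdegNat_comp_of_isOpenImmersion, hr₀']; exact hr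
  have hcx : r₀' ∉ (R₀ : Scheme.{u}).basicOpen c := by
    rw [hmemc, hr₀', htr₀]; exact hau
  have hcz : ∀ z : (R₀ : Scheme.{u}), z ⤳ r₀' → f₀ z = f₀ r₀' →
      (∀ t : (R₀ : Scheme.{u}), t ⤳ z → f₀ t = f₀ z → t = z) →
      z ∈ (R₀ : Scheme.{u}).basicOpen c := by
    intro z hz hfz hzmax
    rw [hmemc]
    apply haZ
    refine ⟨R₀.ι z, ⟨?_, ?_, ?_⟩, rfl⟩
    · rw [← hr₀']; exact hz.map R₀.ι.continuous
    · rw [← hr₀']; exact hfz
    · intro t' ht' hst'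
      have ht'R : t' ∈ R₀ := ht'.mem_open R₀.isOpen z.2
      obtain ⟨t'', rfl⟩ : ∃ t'' : (R₀ : Scheme.{u}), R₀.ι t'' = t' := ⟨⟨t', ht'R⟩, rfl⟩
      have h1 : t'' ⤳ z := R₀.ι.isOpenEmbedding.isInducing.specializes_iff.mp ht'
      rw [hzmax t'' h1 hst']
  obtain ⟨w, hw, hwCM, hwfd, hwr⟩ :=
    slice_subscheme f₀ r₀' hCM₀ n hn₀ hr₀0 c hcx hcz I hI
  -- the slice `U'`
  set π := (𝔸(ULift.{u} (Fin 1); G.U) ↘ G.U) with hπ
  let i' := (coordIdeal γ).subschemeι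
  have sqγ := isPullback_coordIdeal γ
  have sqI := isPullback_coordIdeal (t₀ ≫ γ)
  let aW : I.subscheme ⟶ (coordIdeal γ).subscheme :=
    sqγ.lift (I.subschemeι ≫ t₀) (I.subschemeι ≫ (t₀ ≫ γ) ≫ π) (by
      rw [Category.assoc]; exact sqI.w)
  have haW1 : aW ≫ i' = I.subschemeι ≫ t₀ := sqγ.lift_fst _ _ _
  have haW2 : aW ≫ i' ≫ γ ≫ π = I.subschemeι ≫ (t₀ ≫ γ) ≫ π := sqγ.lift_snd _ _ _
  have sqL : IsPullback aW I.subschemeι i' t₀ := by
    refine IsPullback.of_right ?_ haW1 sqγ.flip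
    rw [haW2]
    exact sqI.flip
  obtain ⟨j, hjo, hj1, hj2⟩ :=
    isOpenImmersion_lift_pullback G.t U₀.ι R₀.ι t₀ ht₀ i' aW I.subschemeι sqL
  -- finite presentation of the slice
  have hσlfp : LocallyOfFinitePresentation (zeroSection (ULift.{u} (Fin 1)) G.U) := by
    haveI : LocallyOfFinitePresentation (zeroSection (ULift.{u} (Fin 1)) G.U ≫ π) := by
      rw [zeroSection_over]; infer_instance
    exact Groth.Agent.Lib.Helper54.CPF.lfp_of_comp (zeroSection (ULift.{u} (Fin 1)) G.U) π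
  have hi'lfp : LocallyOfFinitePresentation i' :=
    MorphismProperty.of_isPullback (P := @LocallyOfFinitePresentation) sqγ.flip hσlfp
  haveI : IsAffine (coordIdeal γ).subscheme := isAffine_of_isAffineHom i'
  refine ⟨(coordIdeal γ).subscheme, inferInstance, i' ≫ U₀.ι, aW w, j w, inferInstance,
    inferInstance, ?_, ?_, ?_, ?_, ?_, ?_⟩
  · rw [← Scheme.Hom.comp_apply, ← Category.assoc, haW1, Category.assoc, ht₀,
      Scheme.Hom.comp_apply, Scheme.Hom.comp_apply, hw, hr₀', htr₀]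
  · rw [← Scheme.Hom.comp_apply, hj1]
  · rw [← Scheme.Hom.comp_apply, hj2, Scheme.Hom.comp_apply, hw, hr₀']
  · have hcomp : j ≫ pullback.snd (i' ≫ U₀.ι) G.t ≫ G.s = I.subschemeι ≫ f₀ := by
      rw [← Category.assoc, hj2, Category.assoc]
    have h1 : MoreMor.IsCMAt (j ≫ pullback.snd (i' ≫ U₀.ι) G.t ≫ G.s) w := by
      rw [hcomp]; exact hwCM
    have hNh : IsNoetherianRing (Q (pullback.snd (i' ≫ U₀.ι) G.t ≫ G.s) (j w)) :=
      isNoetherianRing_Q _ (j w)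
        (LocallyOfFiniteType.isLocallyNoetherian
          ((pullback.snd (i' ≫ U₀.ι) G.t ≫ G.s).fiberToSpecResidueField _))
    exact (isCMAt_of_comp j (pullback.snd (i' ≫ U₀.ι) G.t ≫ G.s) w hNh h1
      (isCMAt_of_isOpenImmersion j w).1).2
  · have hcomp : j ≫ pullback.snd (i' ≫ U₀.ι) G.t ≫ G.s = I.subschemeι ≫ f₀ := by
      rw [← Category.assoc, hj2, Category.assoc]
    rw [← fibreDimAt_eq_of_isOpenImmersion_square j (𝟙 G.U)
      (I.subschemeι ≫ f₀) (pullback.snd (i' ≫ U₀.ι) G.t ≫ G.s) (by rw [Category.comp_id, hcomp]) w]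
    exact hwfd
  · have hcomp : j ≫ pullback.snd (i' ≫ U₀.ι) G.t ≫ G.s = I.subschemeι ≫ f₀ := by
      rw [← Category.assoc, hj2, Category.assoc]
    rw [← resTrdegNat_comp_of_isOpenImmersion j, resTrdegNat_congr hcomp w]
    exact hwr

end Groth.Agent.Lib.Helper73
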