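import Groth.Agent.Lib.Helper73.Grpd.StabDim
import Groth.Agent.Lib.Helper72.GrpdDim

/-!
# The stabilizer fibre has dimension at most the fibre dimension of `s` (helper73)

* `localDim_le_of_isInducing`.
* `GrpdRes.dim_stabilizer_fiber_le_fibreDimAt`: for a finite type point `u` and `r` with
  `s r = t r = u`: `dim G_u ≤ dim_r (s⁻¹ u)`.
* `GrpdRes.exists_dim_stabilizer_fiber_eq_natCast`.
-/

set_option autoImplicit false

universe u

open AlgebraicGeometry CategoryTheory CategoryTheory.Limits Topology

namespace Groth.Agent.Lib.Helper73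

lemma localDim_le_of_isInducing {A B : Type*} [TopologicalSpace A] [TopologicalSpace B]
    (k : A → B) (hk : IsInducing k) (a : A) :
    FlatMor.localDim A a ≤ FlatMor.localDim B (k a) := by
  unfold FlatMor.localDim
  refine le_iInf fun U => ?_
  let W : {W : TopologicalSpace.Opens A // a ∈ W} :=
    ⟨⟨k ⁻¹' (U.1 : Set B), hk.continuous.isOpen_preimage _ U.1.2⟩, U.2⟩
  refine (iInf_le _ W).trans ?_
  exact (hk.restrictPreimage (U.1 : Set B)).topologicalKrullDim_le

namespace GrpdRes

variable {S : Scheme.{u}} (G : Grpd.GroupoidScheme S)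

instance isPreimmersion_qR {U' : Scheme.{u}} (g : U' ⟶ G.U) [IsPreimmersion g] :
    IsPreimmersion (qR G g) := by
  change IsPreimmersion (𝟙 _ ≫ pullback.fst (hh G g) g ≫ pullback.snd g G.t)
  infer_instance

/-- The dimension of the restriction of `G` to `Spec κ(u)` is `dim G_u`. -/
lemma dim_restrictAlong_residueField [LocallyOfFiniteType G.s] [LocallyOfFiniteType G.t]
    (u : G.U) (hu : LocallyOfFiniteType (G.U.fromSpecResidueField u)) :
    topologicalKrullDim (restrictAlong G (G.U.fromSpecResidueField u)).R =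
      topologicalKrullDim ↥(G.stabilizerToU.fiber u) := by
  haveI : LocallyOfFiniteType (G.U.fromSpecResidueField u) := hu
  haveI : LocallyOfFiniteType (gU G (G.U.fromSpecResidueField u)) := hu
  rw [Groth.Agent.Lib.Helper72.GrpdStab.dim_stabilizer_eq
    (restrictAlong G (G.U.fromSpecResidueField u)) (G.U.residueField u) (Iso.refl _)]
  exact IsHomeomorph.topologicalKrullDim_eq _
    (stabIso G (G.U.fromSpecResidueField u)).hom.homeomorph.isHomeomorph

theorem dim_stabilizer_fiber_le_fibreDimAt [LocallyOfFiniteType G.s] [LocallyOfFiniteType G.t]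
    (u : G.U) (hu : LocallyOfFiniteType (G.U.fromSpecResidueField u)) (r : G.R)
    (hs : G.s r = u) (ht : G.t r = u) :
    topologicalKrullDim ↥(G.stabilizerToU.fiber u) ≤ FlatMor.fibreDimAt G.s r ∧
      0 ≤ topologicalKrullDim ↥(G.stabilizerToU.fiber u) := by
  subst hs
  set g := G.U.fromSpecResidueField (G.s r) with hg
  haveI : LocallyOfFiniteType g := hu
  haveI : LocallyOfFiniteType (gU G g) := hu
  let pt : Spec (G.U.residueField (G.s r)) := Classical.arbitrary _
  have hpt : g pt = G.s r := Scheme.fromSpecResidueField_apply _ _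
  obtain ⟨ζ, hζ⟩ := exists_point_restrictAlong G g r pt pt (hpt.trans ht.symm) hpt.symm
  rw [← dim_restrictAlong_residueField G (G.s r) hu]
  have h1 := Groth.Agent.Lib.Helper72.GrpdDim.localDim_eq_dim (restrictAlong G g)
    (G.U.residueField (G.s r)) (Iso.refl _) ζ
  rw [← h1]
  constructor
  · -- the embedding into the fibre
    let k : (restrictAlong G g).R ⟶ G.s.fiber (G.s r) :=
      pullback.lift (qR G g) ((restrictAlong G g).s) (qR_s G g)
    have hk1 : k ≫ G.s.fiberι (G.s r) = qR G g := pullback.lift_fst _ _ _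
    have hkind : IsInducing k := by
      have h2 : IsInducing (G.s.fiberι (G.s r) ∘ k) := by
        have : (G.s.fiberι (G.s r) ∘ k : _ → _) = qR G g := by
          ext z
          change (k ≫ G.s.fiberι (G.s r)) z = _
          rw [hk1]
        rw [this]
        exact (qR G g).isEmbedding.isInducing
      exact IsInducing.of_comp k.continuous (G.s.fiberι (G.s r)).continuous h2
    have hkζ : k ζ = G.s.asFiber r := by
      apply (G.s.fiberι (G.s r)).isEmbedding.injective
      rw [Scheme.Hom.fiberι_asFiber, ← Scheme.Hom.comp_apply, hk1, hζ]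
    have h3 := localDim_le_of_isInducing k hkind ζ
    rw [hkζ] at h3
    exact h3
  · rw [h1]
    have : Nonempty (TopologicalSpace.IrreducibleCloseds (restrictAlong G g).R) :=
      ⟨⟨closure {ζ}, isIrreducible_singleton.closure, isClosed_closure⟩⟩
    exact Order.krullDim_nonneg

theorem exists_dim_stabilizer_fiber_eq_natCast [LocallyOfFiniteType G.s] [LocallyOfFiniteType G.t]
    (u : G.U) (hu : LocallyOfFiniteType (G.U.fromSpecResidueField u)) (r : G.R)
    (hs : G.s r = u) (ht : G.t r = u) (n₀ : ℕ)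
    (hn : FlatMor.fibreDimAt G.s r = ((n₀ : ℕ) : WithBot ℕ∞)) :
    ∃ d : ℕ, d ≤ n₀ ∧ topologicalKrullDim ↥(G.stabilizerToU.fiber u) = ((d : ℕ) : WithBot ℕ∞) := by
  obtain ⟨h1, h2⟩ := dim_stabilizer_fiber_le_fibreDimAt G u hu r hs ht
  rw [hn] at h1
  generalize topologicalKrullDim ↥(G.stabilizerToU.fiber u) = x at h1 h2
  have hx : x ≠ ⊥ := by
    rintro rfl
    exact absurd h2 (not_le_of_gt (WithBot.bot_lt_coe 0))
  obtain ⟨m, rfl⟩ := WithBot.ne_bot_iff_exists.mp hx
  have h3 : m ≤ (n₀ : ℕ∞) := by exact_mod_cast h1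
  lift m to ℕ using ne_top_of_le_ne_top (ENat.coe_ne_top n₀) h3
  exact ⟨m, by exact_mod_cast h3, rfl⟩

end GrpdRes

end Groth.Agent.Lib.Helper73
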