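import Groth.Agent.Lib.Helper73.Grpd.RestrictAlong
import Groth.Agent.Lib.Helper73.DimFormula.Slice.SliceFn
import Groth.Agent.Lib.Helper73.DimFormula.CMFlat.GrpdCM
import Groth.Agent.Lib.Helper73.DimFormula.FieldExtScheme
import Groth.Agent.Lib.Helper19.Grp.FlatBaseChangePt
import Groth.Agent.Lib.Helper48.GrpdPullback

/-!
# Translation invariance for `h = s ∘ pr₂ : U' ×_{g,U,t} R ⟶ U` (helper73)

For a groupoid scheme `G` with `s`, `t` flat and `g : U' ⟶ U`, the morphism
`h = s ∘ pr₂ : P = U' ×_{g,U,t} R ⟶ U` is Cohen–Macaulay at `q` iff it is Cohen–Macaulay at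
`ε (pr₁ q)`, where `ε = (id, e ∘ g) : U' ⟶ P`; similarly for fibre dimensions.

* `isCMAt_iff_of_isPullback_of_flat_base`: pointwise Cohen–Macaulayness and flat base change.
* `GrpdRes.εP`, `GrpdRes.mQ`, `GrpdRes.σQ`, `GrpdRes.isPullback_mQ`.
* `GrpdRes.isCMAt_hh_iff`, `GrpdRes.fibreDimAt_hh_eq`.
-/

set_option autoImplicit false

universe u

open AlgebraicGeometry CategoryTheory CategoryTheory.Limits

namespace Groth.Agent.Lib.Helper73

/-- Pointwise Cohen–Macaulayness is compatible with flat base change. -/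
theorem isCMAt_iff_of_isPullback_of_flat_base {X' X Y' Y : Scheme.{u}} {k : X' ⟶ X} {f' : X' ⟶ Y'}
    {f : X ⟶ Y} {g : Y' ⟶ Y} (sq : IsPullback k f' f g) [Flat g]
    [LocallyOfFinitePresentation f] (x' : X') :
    MoreMor.IsCMAt f' x' ↔ MoreMor.IsCMAt f (k x') :=
  ⟨fun h => ⟨(Groth.Agent.Lib.Helper19.flat_stalkMap_iff_of_isPullback sq x').mp h.1,
    (fibCM_iff_of_isPullback sq x').mp h.2⟩, isCMAt_of_isPullback sq x'⟩

namespace GrpdRes

variable {S : Scheme.{u}} (G : Grpd.GroupoidScheme S) {U' : Scheme.{u}} (g : U' ⟶ G.U)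

/-- The section `u' ↦ (u', e (g u'))` of `pr₁ : U' ×_{g,U,t} R ⟶ U'`. -/
noncomputable def εP : U' ⟶ pullback g G.t :=
  pullback.lift (𝟙 U') (g ≫ G.e) (by rw [Category.id_comp, Category.assoc, G.e_t, Category.comp_id])

@[reassoc (attr := simp)]
lemma εP_fst : εP G g ≫ pullback.fst g G.t = 𝟙 U' := pullback.lift_fst _ _ _

@[reassoc (attr := simp)]
lemma εP_snd : εP G g ≫ pullback.snd g G.t = g ≫ G.e := pullback.lift_snd _ _ _

@[reassoc]
lemma εP_hh : εP G g ≫ hh G g = g := by
  unfold hh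
  rw [εP_snd_assoc, G.e_s, Category.comp_id]

/-- `(u', r₁, r₂) ↦ (r₁, r₂)`. -/
noncomputable def aQ : pullback (hh G g) G.t ⟶ pullback G.s G.t :=
  pullback.lift (pullback.fst (hh G g) G.t ≫ pullback.snd g G.t) (pullback.snd (hh G g) G.t)
    (by rw [Category.assoc]; exact pullback.condition)

@[reassoc (attr := simp)]
lemma aQ_fst : aQ G g ≫ pullback.fst G.s G.t = pullback.fst (hh G g) G.t ≫ pullback.snd g G.t :=
  pullback.lift_fst _ _ _

@[reassoc (attr := simp)]
lemma aQ_snd : aQ G g ≫ pullback.snd G.s G.t = pullback.snd (hh G g) G.t :=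
  pullback.lift_snd _ _ _

/-- `(u', r₁, r₂) ↦ (u', r₁ ∘ r₂)`. -/
noncomputable def mQ : pullback (hh G g) G.t ⟶ pullback g G.t :=
  pullback.lift (pullback.fst (hh G g) G.t ≫ pullback.fst g G.t) (aQ G g ≫ G.c) (by
    rw [Category.assoc, Category.assoc, Groth.Agent.Lib.Helper48.GrpdPullback.c_t, aQ_fst_assoc,
      pullback.condition])

@[reassoc (attr := simp)]
lemma mQ_fst : mQ G g ≫ pullback.fst g G.t = pullback.fst (hh G g) G.t ≫ pullback.fst g G.t :=
  pullback.lift_fst _ _ _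

@[reassoc (attr := simp)]
lemma mQ_snd : mQ G g ≫ pullback.snd g G.t = aQ G g ≫ G.c :=
  pullback.lift_snd _ _ _

/-- The square `Q ⟶ R ×_{s,t} R`, `Q ⟶ P` is cartesian over `pr₁ : R ×_{s,t} R ⟶ R`. -/
lemma isPullback_aQ_fst :
    IsPullback (aQ G g) (pullback.fst (hh G g) G.t) (pullback.fst G.s G.t) (pullback.snd g G.t) := by
  have hright : IsPullback (pullback.snd G.s G.t) (pullback.fst G.s G.t) G.t G.s :=
    (IsPullback.of_hasPullback G.s G.t).flip
  have houter : IsPullback (aQ G g ≫ pullback.snd G.s G.t) (pullback.fst (hh G g) G.t) G.t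
      (pullback.snd g G.t ≫ G.s) := by
    rw [aQ_snd]
    exact (IsPullback.of_hasPullback (hh G g) G.t).flip
  exact IsPullback.of_right houter (aQ_fst G g) hright

/-- The square `Q ⟶ R ×_{s,t} R`, `m : Q ⟶ P` is cartesian over `c : R ×_{s,t} R ⟶ R`. -/
lemma isPullback_aQ_mQ :
    IsPullback (aQ G g) (mQ G g) G.c (pullback.snd g G.t) := by
  have hP : IsPullback (pullback.snd g G.t) (pullback.fst g G.t) G.t g :=
    (IsPullback.of_hasPullback g G.t).flip
  have h1 : IsPullback (aQ G g) (pullback.fst (hh G g) G.t ≫ pullback.fst g G.t)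
      (pullback.fst G.s G.t ≫ G.t) g := (isPullback_aQ_fst G g).paste_vert hP
  have h2 : IsPullback (aQ G g) (mQ G g ≫ pullback.fst g G.t) (G.c ≫ G.t) g := by
    rw [mQ_fst, Groth.Agent.Lib.Helper48.GrpdPullback.c_t]
    exact h1
  exact IsPullback.of_bot h2 (mQ_snd G g).symm hP

/-- The base change of `h` along `s` is `pr₂ : Q ⟶ R` (via `m`). -/
lemma isPullback_mQ :
    IsPullback (mQ G g) (pullback.snd (hh G g) G.t) (hh G g) G.s := by
  have h := (isPullback_aQ_mQ G g).flip.paste_vert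
    (Groth.Agent.Lib.Helper95.isPullback_c_snd (G := G))
  rw [aQ_snd] at h
  exact h

/-- `(u', r) ↦ (u', e (t r), r)`. -/
noncomputable def σQ : pullback g G.t ⟶ pullback (hh G g) G.t :=
  pullback.lift (pullback.fst g G.t ≫ εP G g) (pullback.snd g G.t) (by
    rw [Category.assoc, εP_hh, pullback.condition])

@[reassoc (attr := simp)]
lemma σQ_fst : σQ G g ≫ pullback.fst (hh G g) G.t = pullback.fst g G.t ≫ εP G g :=
  pullback.lift_fst _ _ _

@[reassoc (attr := simp)]
lemma σQ_snd : σQ G g ≫ pullback.snd (hh G g) G.t = pullback.snd g G.t :=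
  pullback.lift_snd _ _ _

lemma σQ_aQ : σQ G g ≫ aQ G g = pullback.snd g G.t ≫ grpdLam G := by
  apply pullback.hom_ext
  · rw [Category.assoc, aQ_fst, σQ_fst_assoc, εP_snd, Category.assoc, grpdLam_fst,
      pullback.condition_assoc]
  · rw [Category.assoc, aQ_snd, σQ_snd, Category.assoc, grpdLam_snd, Category.comp_id]

@[reassoc (attr := simp)]
lemma σQ_mQ : σQ G g ≫ mQ G g = 𝟙 _ := by
  apply pullback.hom_ext
  · rw [Category.assoc, mQ_fst, σQ_fst_assoc, εP_fst, Category.comp_id,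
      Category.id_comp]
  · rw [Category.assoc, mQ_snd, ← Category.assoc, σQ_aQ, Category.assoc, grpdLam_c,
      Category.comp_id, Category.id_comp]

variable [Flat G.s] [Flat G.t] [LocallyOfFinitePresentation G.s] [LocallyOfFinitePresentation g]

omit [Flat G.s] [Flat G.t] in
instance lfp_hh : LocallyOfFinitePresentation (hh G g) := by
  unfold hh
  infer_instance

/-- Translation invariance of the Cohen–Macaulay locus of `h`. -/
theorem isCMAt_hh_iff (q : ↑(pullback g G.t)) :
    MoreMor.IsCMAt (hh G g) q ↔ MoreMor.IsCMAt (hh G g) (εP G g (pullback.fst g G.t q)) := by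
  have h1 := isCMAt_iff_of_isPullback_of_flat_base (isPullback_mQ G g) (σQ G g q)
  have h2 := isCMAt_iff_of_isPullback_of_flat_base (IsPullback.of_hasPullback (hh G g) G.t)
    (σQ G g q)
  have e1 : mQ G g (σQ G g q) = q := by
    rw [← Scheme.Hom.comp_apply, σQ_mQ]; rfl
  have e2 : pullback.fst (hh G g) G.t (σQ G g q) = εP G g (pullback.fst g G.t q) := by
    rw [← Scheme.Hom.comp_apply, σQ_fst, Scheme.Hom.comp_apply]
  rw [e1] at h1
  rw [e2] at h2
  exact h1.symm.trans h2

/-- Translation invariance of the fibre dimension of `h`. -/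
theorem fibreDimAt_hh_eq (q : ↑(pullback g G.t)) :
    FlatMor.fibreDimAt (hh G g) q =
      FlatMor.fibreDimAt (hh G g) (εP G g (pullback.fst g G.t q)) := by
  have h1 := fibreDimAt_eq_of_isPullback (hh G g) G.s (mQ G g) (pullback.snd (hh G g) G.t)
    (isPullback_mQ G g) (σQ G g q)
  have h2 := fibreDimAt_eq_of_isPullback (hh G g) G.t (pullback.fst (hh G g) G.t)
    (pullback.snd (hh G g) G.t) (IsPullback.of_hasPullback (hh G g) G.t) (σQ G g q)
  have e1 : mQ G g (σQ G g q) = q := by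
    rw [← Scheme.Hom.comp_apply, σQ_mQ]; rfl
  have e2 : pullback.fst (hh G g) G.t (σQ G g q) = εP G g (pullback.fst g G.t q) := by
    rw [← Scheme.Hom.comp_apply, σQ_fst, Scheme.Hom.comp_apply]
  rw [e1] at h1
  rw [e2] at h2
  exact h1.symm.trans h2

end GrpdRes

end Groth.Agent.Lib.Helper73
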