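import Groth.Agent.Lib.Helper73.Grpd.MaxSlice

/-!
# Slicing a flat groupoid at a point where the source map is Cohen–Macaulay (helper73)

`grpd_exists_max_slice_of_isCMAt`: same as `grpd_exists_max_slice`, but `s`, `t` are only assumed
flat and locally of finite presentation, and `s` Cohen–Macaulay at `e u`.
-/

set_option autoImplicit false
open CategoryTheory AlgebraicGeometry TopologicalSpace Topology Limits
universe u

namespace Groth.Agent.Lib.Helper73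

open Groth.Agent.Lib.Helper67.FiberStalk Groth.Agent.Lib.Helper67.FiberTower
open Groth.Agent.Lib.Helper73.GrpdRes

theorem grpd_exists_max_slice_of_isCMAt {S : Scheme.{u}} (G : Grpd.GroupoidScheme S)
    [LocallyOfFinitePresentation G.s] [LocallyOfFinitePresentation G.t] [Flat G.s] [Flat G.t]
    (u : G.U) (hsu : MoreMor.IsCMAt G.s (G.e u))
    (hu : LocallyOfFiniteType (G.U.fromSpecResidueField u)) :
    ∃ (U' : Scheme.{u}) (_ : IsAffine U') (g : U' ⟶ G.U) (u' : U') (p : ↑(pullback g G.t))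
      (d : ℕ),
      IsImmersion g ∧ LocallyOfFinitePresentation g ∧ g u' = u ∧ pullback.fst g G.t p = u' ∧
      pullback.snd g G.t p = G.e u ∧ (∀ q, MoreMor.IsCMAt (hh G g) q) ∧
      (∀ q, FlatMor.fibreDimAt (hh G g) q ≤ ((d : ℕ) : WithBot ℕ∞)) ∧
      FlatMor.fibreDimAt (hh G g) p = ((d : ℕ) : WithBot ℕ∞) ∧
      topologicalKrullDim ↥(G.stabilizerToU.fiber u) = ((d : ℕ) : WithBot ℕ∞) := by
  set r₀ := G.e u with hr₀
  have hsr₀ : G.s r₀ = u := by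
    rw [hr₀, ← Scheme.Hom.comp_apply, G.e_s]; rfl
  have htr₀ : G.t r₀ = u := by
    rw [hr₀, ← Scheme.Hom.comp_apply, G.e_t]; rfl
  have hr : resTrdegNat G.s r₀ = 0 := resTrdegNat_s_e G u
  obtain ⟨n₀, hn₀⟩ := exists_fibreDimAt_eq_natCast G.s r₀
  obtain ⟨d, hdn, hd⟩ := exists_dim_stabilizer_fiber_eq_natCast G u hu r₀ hsr₀ htr₀ n₀ hn₀
  obtain ⟨k, rfl⟩ : ∃ k, n₀ = d + k := ⟨n₀ - d, by omega⟩
  -- affine opens
  obtain ⟨U₀, hU₀, huU₀, -⟩ :=
    exists_isAffineOpen_mem_and_subset (X := G.U) (x := u) (U := ⊤) trivial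
  obtain ⟨R₀, hR₀, hrR₀, hR₀le⟩ :=
    exists_isAffineOpen_mem_and_subset (X := G.R) (x := r₀) (U := G.t ⁻¹ᵁ U₀)
      (by change G.t r₀ ∈ U₀; rw [htr₀]; exact huU₀)
  haveI : IsAffine (U₀ : Scheme.{u}) := hU₀
  haveI : IsAffine (R₀ : Scheme.{u}) := hR₀
  let t₀ : (R₀ : Scheme.{u}) ⟶ (U₀ : Scheme.{u}) := G.t.resLE U₀ R₀ hR₀le
  have ht₀ : t₀ ≫ U₀.ι = R₀.ι ≫ G.t := Scheme.Hom.resLE_comp_ι _ _
  set f₀ := R₀.ι ≫ G.s with hf₀
  obtain ⟨r₀', hr₀'⟩ : ∃ w : (R₀ : Scheme.{u}), R₀.ι w = r₀ := ⟨⟨r₀, hrR₀⟩, rfl⟩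
  have hN : IsNoetherianRing (Q (R₀.ι ≫ G.s) r₀') :=
    isNoetherianRing_Q (R₀.ι ≫ G.s) r₀'
      (LocallyOfFiniteType.isLocallyNoetherian
        ((R₀.ι ≫ G.s).fiberToSpecResidueField ((R₀.ι ≫ G.s) r₀')))
  have hCM₀ : MoreMor.IsCMAt f₀ r₀' :=
    isCMAt_comp R₀.ι G.s r₀' hN (isCMAt_of_isOpenImmersion R₀.ι r₀') (by rw [hr₀']; exact hsu)
  have hfd₀ : FlatMor.fibreDimAt f₀ r₀' = ((d + k : ℕ) : WithBot ℕ∞) := by
    rw [fibreDimAt_eq_of_isOpenImmersion_square R₀.ι (𝟙 G.U) f₀ G.s (by simp [hf₀]) r₀', hr₀']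
    exact hn₀
  have hr₀0 : resTrdegNat f₀ r₀' = 0 := by
    rw [hf₀, resTrdegNat_comp_of_isOpenImmersion, hr₀']; exact hr
  have hH : ∀ z : (R₀ : Scheme.{u}), f₀ z = f₀ r₀' → t₀ z = t₀ r₀' → resTrdegNat f₀ z ≤ d := by
    intro z hfz htz
    rw [hf₀, resTrdegNat_comp_of_isOpenImmersion]
    have e0 : ∀ w : (R₀ : Scheme.{u}), G.t (R₀.ι w) = U₀.ι (t₀ w) := fun w => by
      rw [← Scheme.Hom.comp_apply, ← Scheme.Hom.comp_apply, ht₀]
    have e1 : G.s (R₀.ι z) = u := by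
      have : G.s (R₀.ι z) = G.s (R₀.ι r₀') := hfz
      rw [this, hr₀', hsr₀]
    have e2 : G.t (R₀.ι z) = u := by
      rw [e0, htz, ← e0, hr₀', htr₀]
    have h3 := resTrdegNat_le_dim_stabilizer_fiber G u hu (R₀.ι z) e1 e2
    rw [hd] at h3
    exact_mod_cast h3
  obtain ⟨V', X', i, ι, τ', x', hi, hilfp, hι, sq, hx', hCM', hfd', hr'⟩ :=
    multi_slice d k f₀ t₀ r₀' hCM₀ hfd₀ hr₀0 hH
  -- the first slice
  obtain ⟨g₁, hg₁⟩ : ∃ g₁ : V' ⟶ G.U, g₁ = i ≫ U₀.ι := ⟨_, rfl⟩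
  have hjex := isOpenImmersion_lift_pullback G.t U₀.ι R₀.ι t₀ ht₀ i τ' ι sq
  rw [← hg₁] at hjex
  obtain ⟨j, hjo, hj1, hj2⟩ := hjex
  haveI : LocallyOfFinitePresentation g₁ := by rw [hg₁]; infer_instance
  haveI : IsImmersion g₁ := by rw [hg₁]; infer_instance
  set p₁ := j x' with hp₁
  set u₁ := τ' x' with hu₁
  have hg₁u₁ : g₁ u₁ = u := by
    rw [hu₁, hg₁, ← Scheme.Hom.comp_apply, ← Category.assoc, sq.w, Category.assoc, ht₀,
      Scheme.Hom.comp_apply, Scheme.Hom.comp_apply, hx', hr₀', htr₀]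
  have hfstp₁ : pullback.fst g₁ G.t p₁ = u₁ := by
    rw [hp₁, ← Scheme.Hom.comp_apply, hj1]
  have hsndp₁ : pullback.snd g₁ G.t p₁ = G.e u := by
    rw [hp₁, ← Scheme.Hom.comp_apply, hj2, Scheme.Hom.comp_apply, hx', hr₀']
  have hcomp : j ≫ hh G g₁ = ι ≫ f₀ := by
    unfold hh
    rw [← Category.assoc, hj2, Category.assoc]
  have hCMp₁ : MoreMor.IsCMAt (hh G g₁) p₁ := by
    have h1 : MoreMor.IsCMAt (j ≫ hh G g₁) x' := by
      rw [hcomp]; exact hCM'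
    have hNh : IsNoetherianRing (Q (hh G g₁) (j x')) :=
      isNoetherianRing_Q _ (j x')
        (LocallyOfFiniteType.isLocallyNoetherian
          ((hh G g₁).fiberToSpecResidueField _))
    exact (isCMAt_of_comp j (hh G g₁) x' hNh h1 (isCMAt_of_isOpenImmersion j x').1).2
  have hfdp₁ : FlatMor.fibreDimAt (hh G g₁) p₁ = ((d : ℕ) : WithBot ℕ∞) := by
    haveI : LocallyOfFinitePresentation ι :=
      MorphismProperty.of_isPullback (P := @LocallyOfFinitePresentation) sq hilfp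
    rw [hp₁, ← fibreDimAt_eq_of_isOpenImmersion_square j (𝟙 G.U) (ι ≫ f₀) (hh G g₁)
      (by rw [Category.comp_id, hcomp]) x']
    exact hfd'
  -- the good locus
  let Wh : Set ↑(pullback g₁ G.t) :=
    {q | MoreMor.IsCMAt (hh G g₁) q} ∩ {q | FlatMor.fibreDimAt (hh G g₁) q ≤ ((d : ℕ) : WithBot ℕ∞)}
  have hWh : IsOpen Wh :=
    (isOpen_setOf_isCMAt_fp (hh G g₁)).inter (isOpen_fibreDimAt_le d _ _ (hh G g₁))
  have hWh_iff : ∀ q, q ∈ Wh ↔ εP G g₁ (pullback.fst g₁ G.t q) ∈ Wh := by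
    intro q
    change (MoreMor.IsCMAt (hh G g₁) q ∧ FlatMor.fibreDimAt (hh G g₁) q ≤ _) ↔
      (MoreMor.IsCMAt (hh G g₁) _ ∧ FlatMor.fibreDimAt (hh G g₁) _ ≤ _)
    rw [isCMAt_hh_iff G g₁ q, fibreDimAt_hh_eq G g₁ q]
  let W' : V'.Opens := ⟨εP G g₁ ⁻¹' Wh, hWh.preimage (εP G g₁).continuous⟩
  have hu₁W' : u₁ ∈ W' := by
    change εP G g₁ u₁ ∈ Wh
    rw [← hfstp₁, ← hWh_iff]
    exact ⟨hCMp₁, hfdp₁.le⟩
  obtain ⟨U'', hU'', hu₁U'', hU''le⟩ :=
    exists_isAffineOpen_mem_and_subset (X := V') (x := u₁) (U := W') hu₁W'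
  haveI : IsAffine (U'' : Scheme.{u}) := hU''
  set g := U''.ι ≫ g₁ with hg
  haveI : LocallyOfFinitePresentation g := by rw [hg]; infer_instance
  let kk : pullback g G.t ⟶ pullback g₁ G.t :=
    pullback.lift (pullback.fst g G.t ≫ U''.ι) (pullback.snd g G.t) (by
      rw [Category.assoc]; exact pullback.condition)
  have hkk1 : kk ≫ pullback.fst g₁ G.t = pullback.fst g G.t ≫ U''.ι := pullback.lift_fst _ _ _
  have hkk2 : kk ≫ pullback.snd g₁ G.t = pullback.snd g G.t := pullback.lift_snd _ _ _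
  have sqk : IsPullback kk (pullback.fst g G.t) (pullback.fst g₁ G.t) U''.ι := by
    refine IsPullback.of_right ?_ hkk1 (IsPullback.of_hasPullback g₁ G.t).flip
    rw [hkk2]
    exact (IsPullback.of_hasPullback g G.t).flip
  haveI : IsOpenImmersion kk :=
    MorphismProperty.of_isPullback (P := @IsOpenImmersion) sqk.flip inferInstance
  have hkkh : kk ≫ hh G g₁ = hh G g := by
    unfold hh
    rw [← Category.assoc, hkk2]
  have hkkW : ∀ q, kk q ∈ Wh := by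
    intro q
    rw [hWh_iff]
    have e1 : pullback.fst g₁ G.t (kk q) = U''.ι (pullback.fst g G.t q) := by
      rw [← Scheme.Hom.comp_apply, hkk1, Scheme.Hom.comp_apply]
    rw [e1]
    exact hU''le (pullback.fst g G.t q).2
  -- the point
  obtain ⟨u'', hu''⟩ : ∃ w : (U'' : Scheme.{u}), U''.ι w = u₁ := ⟨⟨u₁, hu₁U''⟩, rfl⟩
  obtain ⟨z, hz1, hz2⟩ := Scheme.Pullback.exists_preimage_pullback
    (f := pullback.fst g₁ G.t) (g := U''.ι) p₁ u'' (hfstp₁.trans hu''.symm)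
  set p := sqk.isoPullback.inv z with hp
  have hkkp : kk p = p₁ := by
    rw [hp, ← Scheme.Hom.comp_apply, sqk.isoPullback_inv_fst, hz1]
  have hfstp : pullback.fst g G.t p = u'' := by
    rw [hp, ← Scheme.Hom.comp_apply, sqk.isoPullback_inv_snd, hz2]
  have hfd_eq : ∀ q, FlatMor.fibreDimAt (hh G g) q = FlatMor.fibreDimAt (hh G g₁) (kk q) :=
    fun q => fibreDimAt_eq_of_isOpenImmersion_square kk (𝟙 G.U) (hh G g) (hh G g₁)
      (by rw [Category.comp_id, hkkh]) q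
  refine ⟨U'', inferInstance, g, u'', p, d, inferInstance, inferInstance, ?_, hfstp, ?_, ?_, ?_,
    ?_, hd⟩
  · rw [hg, Scheme.Hom.comp_apply, hu'', hg₁u₁]
  · rw [← hkk2, Scheme.Hom.comp_apply, hkkp, hsndp₁]
  · intro q
    have hNq : IsNoetherianRing (Q (kk ≫ hh G g₁) q) :=
      isNoetherianRing_Q _ q
        (LocallyOfFiniteType.isLocallyNoetherian
          ((kk ≫ hh G g₁).fiberToSpecResidueField _))
    have := isCMAt_comp kk (hh G g₁) q hNq (isCMAt_of_isOpenImmersion kk q) (hkkW q).1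
    rwa [hkkh] at this
  · intro q
    rw [hfd_eq]
    exact (hkkW q).2
  · rw [hfd_eq, hkkp]
    exact hfdp₁

end Groth.Agent.Lib.Helper73
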