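import Groth.Agent.Lib.Helper73.Grpd.SliceUtil
import Groth.Agent.Lib.Helper73.DimFormula.Slice.SliceFn
import Groth.Agent.Lib.Helper73.DimFormula.CMFlat.CMFlatFP
import Groth.Agent.Lib.Helper73.DimFormula.Hypersurface

/-!
# Slicing repeatedly (helper73)

Abstract form of the slicing step for groupoids: `f : X ⟶ Y` is Cohen–Macaulay at `x` with fibre
dimension `n + 1`, `κ(x)` algebraic over `κ(f x)`, `τ : X ⟶ V` with `X`, `V` affine such that
`τ x` is not a specialization of `τ z` for any maximal point `z` of the fibre generizing `x`. Then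
we can cut `V` by one equation so that the base change of `X` is Cohen–Macaulay at `x` of fibre
dimension `n`.

* `slice_step`, `multi_slice`.
-/

set_option autoImplicit false
open CategoryTheory AlgebraicGeometry TopologicalSpace Topology Limits
universe u

namespace Groth.Agent.Lib.Helper73

open Groth.Agent.Lib.Helper67.FiberStalk Groth.Agent.Lib.Helper67.FiberTower

lemma fibreDimAt_congr_hom {X Y : Scheme.{u}} {f g : X ⟶ Y} (h : f = g) (x : X) :
    FlatMor.fibreDimAt f x = FlatMor.fibreDimAt g x := by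
  subst h; rfl

theorem slice_step {X V Y : Scheme.{u}} [IsAffine X] [IsAffine V] (f : X ⟶ Y)
    [LocallyOfFinitePresentation f] (τ : X ⟶ V) (x : X) (hCM : MoreMor.IsCMAt f x) (n : ℕ)
    (hn : FlatMor.fibreDimAt f x = ((n + 1 : ℕ) : WithBot ℕ∞)) (hr : resTrdegNat f x = 0)
    (hH : ∀ z : X, z ⤳ x → f z = f x → (∀ t : X, t ⤳ z → f t = f z → t = z) → ¬ τ x ⤳ τ z) :
    ∃ (V' X' : Scheme.{u}) (i : V' ⟶ V) (ι : X' ⟶ X) (τ' : X' ⟶ V') (x' : X'),
      IsClosedImmersion i ∧ LocallyOfFinitePresentation i ∧ IsClosedImmersion ι ∧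
      IsPullback τ' ι i τ ∧ ι x' = x ∧ MoreMor.IsCMAt (ι ≫ f) x' ∧
      FlatMor.fibreDimAt (ι ≫ f) x' = ((n : ℕ) : WithBot ℕ∞) ∧ resTrdegNat (ι ≫ f) x' = 0 := by
  let Zs : Set X := {z | z ⤳ x ∧ f z = f x ∧ ∀ t : X, t ⤳ z → f t = f z → t = z}
  have hZsfin : Zs.Finite := finite_maximal_fiber_generizations f x
  let Z : Set V := τ '' Zs
  have hZfin : Z.Finite := hZsfin.image _
  obtain ⟨a, hau, haZ⟩ := exists_section_vanishing_avoiding (⊤ : V.Opens) (isAffineOpen_top V)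
    (τ x) trivial Z hZfin (fun _ _ => trivial) (by
      rintro _ ⟨z, ⟨hz, hfz, hzmax⟩, rfl⟩
      exact hH z hz hfz hzmax)
  let γ : V ⟶ 𝔸(ULift.{u} (Fin 1); V) := AffineSpace.homOfVector (𝟙 V) (fun _ => a)
  let c : Γ(X, ⊤) := τ.appTop a
  let I := coordIdeal (τ ≫ γ)
  have hI : I = coordIdeal (AffineSpace.homOfVector f (fun _ : ULift.{u} (Fin 1) => c)) :=
    coordIdeal_congr _ _ (fun i => by
      rw [Scheme.Hom.comp_appTop, CommRingCat.comp_apply, AffineSpace.homOfVector_appTop_coord,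
        AffineSpace.homOfVector_appTop_coord])
  have hmemc : ∀ w : X, w ∈ X.basicOpen c ↔ τ w ∈ V.basicOpen a := by
    intro w
    have e1 : X.basicOpen c = τ ⁻¹ᵁ V.basicOpen a := (Scheme.preimage_basicOpen_top τ a).symm
    rw [e1]
    rfl
  have hcx : x ∉ X.basicOpen c := by
    rw [hmemc]; exact hau
  have hcz : ∀ z : X, z ⤳ x → f z = f x → (∀ t : X, t ⤳ z → f t = f z → t = z) →
      z ∈ X.basicOpen c := by
    intro z hz hfz hzmax
    rw [hmemc]
    exact haZ _ ⟨z, ⟨hz, hfz, hzmax⟩, rfl⟩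
  obtain ⟨w, hw, hwCM, hwfd, hwr⟩ := slice_subscheme f x hCM n hn hr c hcx hcz I hI
  set π := (𝔸(ULift.{u} (Fin 1); V) ↘ V) with hπ
  let i' := (coordIdeal γ).subschemeι
  have sqγ := isPullback_coordIdeal γ
  have sqI := isPullback_coordIdeal (τ ≫ γ)
  let aW : I.subscheme ⟶ (coordIdeal γ).subscheme :=
    sqγ.lift (I.subschemeι ≫ τ) (I.subschemeι ≫ (τ ≫ γ) ≫ π) (by
      rw [Category.assoc]; exact sqI.w)
  have haW1 : aW ≫ i' = I.subschemeι ≫ τ := sqγ.lift_fst _ _ _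
  have haW2 : aW ≫ i' ≫ γ ≫ π = I.subschemeι ≫ (τ ≫ γ) ≫ π := sqγ.lift_snd _ _ _
  have sqL : IsPullback aW I.subschemeι i' τ := by
    refine IsPullback.of_right ?_ haW1 sqγ.flip
    rw [haW2]
    exact sqI.flip
  have hσlfp : LocallyOfFinitePresentation (zeroSection (ULift.{u} (Fin 1)) V) := by
    haveI : LocallyOfFinitePresentation (zeroSection (ULift.{u} (Fin 1)) V ≫ π) := by
      rw [zeroSection_over]; infer_instance
    exact Groth.Agent.Lib.Helper54.CPF.lfp_of_comp (zeroSection (ULift.{u} (Fin 1)) V) π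
  have hi'lfp : LocallyOfFinitePresentation i' :=
    MorphismProperty.of_isPullback (P := @LocallyOfFinitePresentation) sqγ.flip hσlfp
  exact ⟨(coordIdeal γ).subscheme, I.subscheme, i', I.subschemeι, aW, w, inferInstance, hi'lfp,
    inferInstance, sqL, hw, hwCM, hwfd, hwr⟩

theorem multi_slice (d : ℕ) : ∀ (k : ℕ) {X V Y : Scheme.{u}} [IsAffine X] [IsAffine V] (f : X ⟶ Y)
    [LocallyOfFinitePresentation f] (τ : X ⟶ V) (x : X), MoreMor.IsCMAt f x →
    FlatMor.fibreDimAt f x = ((d + k : ℕ) : WithBot ℕ∞) → resTrdegNat f x = 0 →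
    (∀ z : X, f z = f x → τ z = τ x → resTrdegNat f z ≤ d) →
    ∃ (V' X' : Scheme.{u}) (i : V' ⟶ V) (ι : X' ⟶ X) (τ' : X' ⟶ V') (x' : X'),
      IsClosedImmersion i ∧ LocallyOfFinitePresentation i ∧ IsClosedImmersion ι ∧
      IsPullback τ' ι i τ ∧ ι x' = x ∧ MoreMor.IsCMAt (ι ≫ f) x' ∧
      FlatMor.fibreDimAt (ι ≫ f) x' = ((d : ℕ) : WithBot ℕ∞) ∧ resTrdegNat (ι ≫ f) x' = 0 := by
  intro k
  induction k with
  | zero =>
    intro X V Y _ _ f _ τ x hCM hn hr hH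
    refine ⟨V, X, 𝟙 V, 𝟙 X, τ, x, inferInstance, inferInstance, inferInstance,
      IsPullback.of_vert_isIso ⟨by rw [Category.comp_id, Category.id_comp]⟩, rfl, ?_, ?_, ?_⟩
    · rw [Category.id_comp]; exact hCM
    · rw [fibreDimAt_congr_hom (Category.id_comp f)]; exact hn
    · rw [resTrdegNat_congr (Category.id_comp f)]; exact hr
  | succ k ih =>
    intro X V Y _ _ f _ τ x hCM hn hr hH
    have hH' : ∀ z : X, z ⤳ x → f z = f x → (∀ t : X, t ⤳ z → f t = f z → t = z) →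
        ¬ τ x ⤳ τ z := by
      intro z hz hfz hzmax hτ
      have h1 : τ z ⤳ τ x := hz.map τ.continuous
      have hτz : τ z = τ x := (h1.antisymm hτ).eq
      have h2 := resTrdegNat_eq_of_isCMAt_fp f x hCM (d + k + 1) hn z hz hzmax
      have h3 := hH z hfz hτz
      omega
    obtain ⟨V₁, X₁, i₁, ι₁, τ₁, x₁, hi₁, hi₁lfp, hι₁, sq₁, hx₁, hCM₁, hfd₁, hr₁⟩ :=
      slice_step f τ x hCM (d + k) hn hr hH'
    haveI : IsAffine V₁ := isAffine_of_isAffineHom i₁
    haveI : IsAffine X₁ := isAffine_of_isAffineHom ι₁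
    haveI hι₁lfp : LocallyOfFinitePresentation ι₁ :=
      MorphismProperty.of_isPullback (P := @LocallyOfFinitePresentation) sq₁ hi₁lfp
    have hH₁ : ∀ z : X₁, (ι₁ ≫ f) z = (ι₁ ≫ f) x₁ → τ₁ z = τ₁ x₁ →
        resTrdegNat (ι₁ ≫ f) z ≤ d := by
      intro z hfz hτz
      rw [resTrdegNat_comp_of_isPreimmersion]
      apply hH
      · rw [← hx₁]; exact hfz
      · have e1 : ∀ w : X₁, τ (ι₁ w) = i₁ (τ₁ w) := fun w => by
          rw [← Scheme.Hom.comp_apply, ← Scheme.Hom.comp_apply, sq₁.w]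
        rw [← hx₁, e1, e1, hτz]
    obtain ⟨V₂, X₂, i₂, ι₂, τ₂, x₂, hi₂, hi₂lfp, hι₂, sq₂, hx₂, hCM₂, hfd₂, hr₂⟩ :=
      ih (ι₁ ≫ f) τ₁ x₁ hCM₁ hfd₁ hr₁ hH₁
    refine ⟨V₂, X₂, i₂ ≫ i₁, ι₂ ≫ ι₁, τ₂, x₂, inferInstance, inferInstance, inferInstance,
      sq₂.paste_vert sq₁, ?_, ?_, ?_, ?_⟩
    · rw [Scheme.Hom.comp_apply, hx₂, hx₁]
    · rw [Category.assoc]; exact hCM₂
    · rw [fibreDimAt_congr_hom (Category.assoc ι₂ ι₁ f)]; exact hfd₂
    · rw [resTrdegNat_congr (Category.assoc ι₂ ι₁ f)]; exact hr₂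

end Groth.Agent.Lib.Helper73
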