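import Groth.Agent.Lib.Helper73.Grpd.RestrictAlong
import Groth.Agent.Lib.Helper72.GrpdStab
import Groth.Agent.Lib.Helper73.DimFormula.Hypersurface

/-!
# The stabilizer of a restricted groupoid scheme (helper73)

* `GrpdRes.stabIso`: the stabilizer of the restriction of `G` along `g : U' ⟶ U` is the base change
  of the stabilizer of `G` along `g`.
* `GrpdRes.resTrdegNat_le_dim_stabilizer_fiber`: for a finite type point `u` of `U` and a point
  `z` of `R` with `s z = t z = u`, the transcendence degree of `κ(z)` over `κ(u)` (via `s`) is at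
  most the dimension of the fibre `G_u` of the stabilizer.
-/

set_option autoImplicit false

universe u

namespace Groth.Agent.Lib.Helper73.GrpdRes

open AlgebraicGeometry CategoryTheory CategoryTheory.Limits Groth.Agent.Lib.Helper72.GrpdPts

variable {S : Scheme.{u}} (G : Grpd.GroupoidScheme S) {U' : Scheme.{u}} (g : U' ⟶ G.U)

/-- the inclusion of the stabilizer in `R` -/
noncomputable abbrev stabι : G.stabilizer ⟶ G.R := pullback.fst G.j G.diag

lemma stabι_t : stabι G ≫ G.t = G.stabilizerToU := by
  have h := pullback.condition (f := G.j) (g := G.diag)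
  have h1 := congrArg (fun φ => φ ≫ pullback.fst G.pU G.pU) h
  simp only [Category.assoc, Grpd.GroupoidScheme.j, Grpd.GroupoidScheme.diag, pullback.lift_fst,
    Category.comp_id] at h1
  exact h1

lemma stabι_s : stabι G ≫ G.s = G.stabilizerToU := by
  have h := pullback.condition (f := G.j) (g := G.diag)
  have h1 := congrArg (fun φ => φ ≫ pullback.snd G.pU G.pU) h
  simp only [Category.assoc, Grpd.GroupoidScheme.j, Grpd.GroupoidScheme.diag, pullback.lift_snd,
    Category.comp_id] at h1
  exact h1

/-- A `T`-point of the stabilizer from an arrow with equal source and target. -/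
noncomputable def stabMk {T : Scheme.{u}} (α : T ⟶ G.R) (v : T ⟶ G.U) (h1 : α ≫ G.t = v)
    (h2 : α ≫ G.s = v) : T ⟶ G.stabilizer :=
  pullback.lift α v (by
    apply pullback.hom_ext
    · rw [Category.assoc, Category.assoc, Grpd.GroupoidScheme.j, Grpd.GroupoidScheme.diag,
        pullback.lift_fst, pullback.lift_fst, Category.comp_id, h1]
    · rw [Category.assoc, Category.assoc, Grpd.GroupoidScheme.j, Grpd.GroupoidScheme.diag,
        pullback.lift_snd, pullback.lift_snd, Category.comp_id, h2])

lemma stabMk_ι {T : Scheme.{u}} (α : T ⟶ G.R) (v : T ⟶ G.U) (h1 : α ≫ G.t = v)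
    (h2 : α ≫ G.s = v) : stabMk G α v h1 h2 ≫ stabι G = α := pullback.lift_fst _ _ _

lemma stabMk_toU {T : Scheme.{u}} (α : T ⟶ G.R) (v : T ⟶ G.U) (h1 : α ≫ G.t = v)
    (h2 : α ≫ G.s = v) : stabMk G α v h1 h2 ≫ G.stabilizerToU = v := pullback.lift_snd _ _ _

lemma stab_hom_ext {T : Scheme.{u}} {x y : T ⟶ G.stabilizer} (h : x ≫ stabι G = y ≫ stabι G) :
    x = y := by
  apply pullback.hom_ext h
  change x ≫ G.stabilizerToU = y ≫ G.stabilizerToU
  rw [← stabι_t, ← Category.assoc, h, Category.assoc]

/-- The forward map of `stabIso`. -/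
noncomputable def stabHom :
    (restrictAlong G g).stabilizer ⟶ pullback G.stabilizerToU (gU G g) :=
  pullback.lift
    (stabMk G (stabι (restrictAlong G g) ≫ qR G g)
      ((restrictAlong G g).stabilizerToU ≫ gU G g)
      (by rw [Category.assoc, qR_t, ← Category.assoc, stabι_t])
      (by rw [Category.assoc, qR_s, ← Category.assoc, stabι_s]))
    (restrictAlong G g).stabilizerToU (stabMk_toU _ _ _ _ _)

/-- The backward map of `stabIso`. -/
noncomputable def stabInv :
    pullback G.stabilizerToU (gU G g) ⟶ (restrictAlong G g).stabilizer :=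
  stabMk (restrictAlong G g)
    (mkR (pullback.snd G.stabilizerToU (gU G g))
      (pullback.fst G.stabilizerToU (gU G g) ≫ stabι G)
      (pullback.snd G.stabilizerToU (gU G g))
      (by rw [Category.assoc, stabι_t, pullback.condition])
      (by rw [Category.assoc, stabι_s, pullback.condition]))
    (pullback.snd G.stabilizerToU (gU G g))
    (mkR_t _ _ _ _ _) (mkR_s _ _ _ _ _)

lemma stabHom_stabInv : stabHom G g ≫ stabInv G g = 𝟙 _ := by
  apply stab_hom_ext
  rw [Category.assoc, Category.id_comp]
  unfold stabInv
  rw [stabMk_ι]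
  apply R_hom_ext
  · rw [Category.assoc, mkR_t, stabι_t]
    unfold stabHom
    rw [pullback.lift_snd]
  · rw [Category.assoc, mkR_qR]
    unfold stabHom
    rw [pullback.lift_fst_assoc, stabMk_ι]
  · rw [Category.assoc, mkR_s, stabι_s]
    unfold stabHom
    rw [pullback.lift_snd]

lemma stabInv_stabHom : stabInv G g ≫ stabHom G g = 𝟙 _ := by
  apply pullback.hom_ext
  · rw [Category.assoc, Category.id_comp]
    unfold stabHom
    rw [pullback.lift_fst]
    apply stab_hom_ext
    rw [Category.assoc, stabMk_ι, ← Category.assoc]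
    unfold stabInv
    rw [stabMk_ι, mkR_qR]
  · rw [Category.assoc, Category.id_comp]
    unfold stabHom
    rw [pullback.lift_snd]
    unfold stabInv
    exact stabMk_toU _ _ _ _ _

/-- The stabilizer of the restricted groupoid is the base change of the stabilizer. -/
noncomputable def stabIso :
    (restrictAlong G g).stabilizer ≅ pullback G.stabilizerToU (gU G g) where
  hom := stabHom G g
  inv := stabInv G g
  hom_inv_id := stabHom_stabInv G g
  inv_hom_id := stabInv_stabHom G g

end Groth.Agent.Lib.Helper73.GrpdRes
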