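import Groth.Agent.Lib.Helper73.Grpd.RestrictStab
import Groth.Agent.Lib.Helper73.DimFormula.AffineSpaceQF

/-!
# Dimension of the stabilizer fibre bounds residual transcendence degrees (helper73)

* `GrpdRes.resTrdegNat_le_dim_stabilizer_fiber`: for a finite type point `u` of `U` and a point
  `z` of `R` with `s z = t z = u`, the transcendence degree of `κ(z)` over `κ(u)` (via `s`) is at
  most the dimension of the fibre `G_u` of the stabilizer.
-/

set_option autoImplicit false

universe u

namespace Groth.Agent.Lib.Helper73.GrpdRes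

open AlgebraicGeometry CategoryTheory CategoryTheory.Limits Groth.Agent.Lib.Helper73

variable {S : Scheme.{u}} (G : Grpd.GroupoidScheme S)

lemma resTrdegNat_eq_zero_of_isPreimmersion {X Y : Scheme.{u}} (j : X ⟶ Y) [IsPreimmersion j]
    [LocallyOfFiniteType j] (x : X) : resTrdegNat j x = 0 := by
  have h1 := resTrdegNat_comp_of_isPreimmersion j (𝟙 Y) x
  have h2 : resTrdegNat (j ≫ 𝟙 Y) x = resTrdegNat j x := resTrdegNat_congr (Category.comp_id j) x
  have h3 : resTrdegNat (𝟙 Y) (j x) = 0 := by
    have e1 := resTrdegNat_comp (𝟙 Y) (𝟙 Y) (j x)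
    have e2 : resTrdegNat (𝟙 Y ≫ 𝟙 Y) (j x) = resTrdegNat (𝟙 Y) (j x) :=
      resTrdegNat_congr (Category.id_comp _) _
    have e3 : (𝟙 Y : Y ⟶ Y) (j x) = j x := rfl
    rw [e3] at e1
    omega
  omega

instance lft_restrictAlong_s {U' : Scheme.{u}} (g : U' ⟶ G.U) [LocallyOfFiniteType G.s]
    [LocallyOfFiniteType g] : LocallyOfFiniteType (restrictAlong G g).s := by
  change LocallyOfFiniteType (pullback.snd (hh G g) g)
  infer_instance

instance lft_restrictAlong_t {U' : Scheme.{u}} (g : U' ⟶ G.U) [LocallyOfFiniteType G.t]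
    [LocallyOfFiniteType g] : LocallyOfFiniteType (restrictAlong G g).t := by
  change LocallyOfFiniteType (pullback.fst (hh G g) g ≫ pullback.fst g G.t)
  infer_instance

instance lft_qR {U' : Scheme.{u}} (g : U' ⟶ G.U) [LocallyOfFiniteType g] :
    LocallyOfFiniteType (qR G g) := by
  change LocallyOfFiniteType (𝟙 _ ≫ pullback.fst (hh G g) g ≫ pullback.snd g G.t)
  infer_instance

/-- Points of `R` whose source and target lie in the image of `g` lift to the restriction. -/
lemma exists_point_restrictAlong {U' : Scheme.{u}} (g : U' ⟶ G.U) (z : G.R) (a b : U')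
    (ha : g a = G.t z) (hb : G.s z = g b) :
    ∃ ζ : (restrictAlong G g).R, qR G g ζ = z := by
  obtain ⟨q₁, hq₁a, hq₁z⟩ := Scheme.Pullback.exists_preimage_pullback (f := g) (g := G.t) a z ha
  have h2 : (hh G g) q₁ = g b := by
    change (pullback.snd g G.t ≫ G.s) q₁ = _
    rw [Scheme.Hom.comp_apply, hq₁z, hb]
  obtain ⟨q₂, hq₂, -⟩ :=
    Scheme.Pullback.exists_preimage_pullback (f := hh G g) (g := g) q₁ b h2
  refine ⟨q₂, ?_⟩
  change (𝟙 _ ≫ pullback.fst (hh G g) g ≫ pullback.snd g G.t) q₂ = z
  rw [Category.id_comp, Scheme.Hom.comp_apply, hq₂, hq₁z]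

theorem resTrdegNat_le_dim_stabilizer_fiber [LocallyOfFiniteType G.s] [LocallyOfFiniteType G.t]
    (u : G.U) (hu : LocallyOfFiniteType (G.U.fromSpecResidueField u)) (z : G.R)
    (hs : G.s z = u) (ht : G.t z = u) :
    ((resTrdegNat G.s z : ℕ) : WithBot ℕ∞) ≤ topologicalKrullDim ↥(G.stabilizerToU.fiber u) := by
  set g := G.U.fromSpecResidueField u with hg
  haveI : LocallyOfFiniteType g := hu
  haveI : LocallyOfFiniteType (gU G g) := hu
  let pt : Spec (G.U.residueField u) := Classical.arbitrary _
  have hpt : g pt = u := Scheme.fromSpecResidueField_apply _ _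
  obtain ⟨ζ, hζ⟩ := exists_point_restrictAlong G g z pt pt (hpt.trans ht.symm) (hs.trans hpt.symm)
  -- dimension of the restriction
  have hdim : topologicalKrullDim (restrictAlong G g).R =
      topologicalKrullDim ↥(G.stabilizerToU.fiber u) := by
    rw [Groth.Agent.Lib.Helper72.GrpdStab.dim_stabilizer_eq (restrictAlong G g)
      (G.U.residueField u) (Iso.refl _)]
    exact IsHomeomorph.topologicalKrullDim_eq _ (stabIso G g).hom.homeomorph.isHomeomorph
  rw [← hdim]
  -- transcendence degrees
  have h1 := resTrdegNat_comp (qR G g) G.s ζ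
  have h2 := resTrdegNat_comp (restrictAlong G g).s (gU G g) ζ
  have h3 : resTrdegNat (qR G g ≫ G.s) ζ = resTrdegNat ((restrictAlong G g).s ≫ gU G g) ζ :=
    resTrdegNat_congr (qR_s G g) ζ
  have h4 : resTrdegNat (gU G g) ((restrictAlong G g).s ζ) = 0 :=
    resTrdegNat_eq_zero_of_isPreimmersion g _
  rw [hζ] at h1
  have h5 : resTrdegNat G.s z ≤ resTrdegNat (restrictAlong G g).s ζ := by omega
  have h6 := resTrdegNat_le_topologicalKrullDim_fiber (restrictAlong G g).s ζ
  have h7 : topologicalKrullDim ↥((restrictAlong G g).s.fiber ((restrictAlong G g).s ζ)) ≤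
      topologicalKrullDim (restrictAlong G g).R :=
    ((restrictAlong G g).s.fiberι _).isEmbedding.isInducing.topologicalKrullDim_le
  refine le_trans ?_ (h6.trans h7)
  exact_mod_cast h5

end Groth.Agent.Lib.Helper73.GrpdRes
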